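import Cfsg.Agent.Schreier.CocodeSmall
import Cfsg.Agent.PLocal.ThompsonReplacement

/-!
# The even Golay cocode is the only elementary abelian subgroup of maximal order (helper827)

`T` is a group with a normal subgroup `E = ι.range`, the even Golay cocode (order `2^11`), `T / E ≤ M24`. Then `E` is
the only elementary abelian 2-subgroup of maximal order of `T` (`mem_max_iff`).
-/

set_option autoImplicit false

namespace Cfsg.Agent.H827.JT

open Cfsg Cfsg.Agent.Schreier Cfsg.Agent.J4Type.DuadStab Cfsg.Agent.J4Type.ClosingCocode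
  Cfsg.Agent.Schreier.CocodeSmall
open scoped commutatorElement

variable {T : Type*} [Group T] {A : Type*} [CommGroup A] {e : GolayPt → A}

/-- `T` is an extension of a subgroup of `M24` by the even cocode. -/
structure Ext (P : Pres e) (ι : A →* T) (f : T →* M24) : Prop where
  inj : Function.Injective ι
  act : ∀ (t : T) (a : A), t * ι a * t⁻¹ = ι (actE P (f t) a)
  ker : ∀ t : T, f t = 1 → t ∈ ι.range

variable {P : Pres e} {ι : A →* T} {f : T →* M24}

namespace Ext

variable (H : Ext P ι f)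

include H

theorem f_one {t : T} (h : ∀ a, t * ι a = ι a * t) : f t = 1 := by
  apply actE_inj P
  intro a
  apply H.inj
  rw [← H.act, actE_one, h, mul_inv_cancel_right]

theorem f_mem {t : T} (ht : t ∈ ι.range) : f t = 1 := by
  apply H.f_one
  intro a
  obtain ⟨b, rfl⟩ := ht
  rw [← map_mul, ← map_mul, mul_comm]

theorem mem_iff {t : T} : t ∈ ι.range ↔ f t = 1 := ⟨H.f_mem, H.ker t⟩

theorem normal : ι.range.Normal := by
  constructor
  rintro _ ⟨a, rfl⟩ t
  exact ⟨_, (H.act t a).symm⟩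

theorem elem : IsElementaryAbelian 2 ι.range := by
  refine ⟨⟨⟨?_⟩⟩, ?_⟩
  · rintro ⟨_, a, rfl⟩ ⟨_, b, rfl⟩
    apply Subtype.ext
    show ι a * ι b = ι b * ι a
    rw [← map_mul, ← map_mul, mul_comm]
  · rintro _ ⟨a, rfl⟩
    rw [pow_two, ← map_mul, CocodeSmall.sq P, map_one]

theorem card_range (hA : Nat.card A = 2 ^ 11) : Nat.card ι.range = 2 ^ 11 := by
  rw [← hA]; exact (Nat.card_congr (MonoidHom.ofInjective H.inj).toEquiv).symm

/-- no elementary abelian subgroup `B ≥ [E, B]` of order at least `2^11` moves `E` -/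
theorem not_quad [Finite T] [Finite A] (hA : Nat.card A = 2 ^ 11) {B : Subgroup T} (hB : IsElementaryAbelian 2 B)
    (hc : 2 ^ 11 ≤ Nat.card B) (hq : ⁅ι.range, B⁆ ≤ B) : B ≤ ι.range := by
  let g : B →* M24 := f.comp B.subtype
  let B' : Subgroup M24 := g.range
  let A0 : Subgroup A := B.comap ι
  have hsq : ∀ x ∈ B, x * x = 1 := fun x hx => by rw [← pow_two]; exact hB.2 x hx
  have hcomm : ∀ x ∈ B, ∀ y ∈ B, x * y = y * x := fun x hx y hy =>
    congrArg Subtype.val (hB.1.is_comm.comm ⟨x, hx⟩ ⟨y, hy⟩)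
  have hker : Nat.card g.ker = Nat.card A0 := by
    symm
    refine Nat.card_congr (Equiv.ofBijective
      (fun a : A0 => (⟨⟨ι a, a.2⟩, ?_⟩ : g.ker)) ⟨?_, ?_⟩)
    · rw [MonoidHom.mem_ker]
      exact H.f_mem ⟨(a : A), rfl⟩
    · intro a b hab
      have h1 : ι (a : A) = ι (b : A) := congrArg (fun x : g.ker => ((x : B) : T)) hab
      exact Subtype.ext (H.inj h1)
    · rintro ⟨⟨y, hy⟩, hy'⟩
      rw [MonoidHom.mem_ker] at hy'
      obtain ⟨a, ha⟩ := H.ker _ hy'
      have ha' : ι a = y := ha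
      refine ⟨⟨a, ?_⟩, ?_⟩
      · show ι a ∈ B
        rw [ha']; exact hy
      · exact Subtype.ext (Subtype.ext ha')
  have hmul : Nat.card A0 * Nat.card B' = Nat.card B := by
    rw [← hker, ← Subgroup.index_ker, Subgroup.card_mul_index]
  have hB1 : B' = ⊥ := by
    by_contra hne
    have h1 := small P hA B' (by
      rintro _ ⟨x, rfl⟩
      rw [← map_mul]
      have : x * x = 1 := Subtype.ext (hsq x x.2)
      rw [this, map_one]) hne A0 (by
      rintro _ ⟨x, rfl⟩ a ha
      apply H.inj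
      rw [← show (x : T) * ι a * (x : T)⁻¹ = ι (actE P (g x) a) from H.act (x : T) a,
        hcomm x x.2 _ ha, mul_inv_cancel_right]) (by
      rintro _ ⟨x, rfl⟩ a
      show ι (actE P (g x) a * a) ∈ B
      have h2 : (x : T) * ι a * (x : T)⁻¹ = ι (actE P (g x) a) := H.act (x : T) a
      rw [map_mul, ← h2]
      have h4 : ι a = (ι a)⁻¹ := by
        rw [← map_inv]; congr 1
        exact eq_inv_of_mul_eq_one_left (CocodeSmall.sq P a)
      have h5 : (x : T) * ι a * (x : T)⁻¹ * ι a = ⁅(x : T), ι a⁆ := by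
        rw [commutatorElement_def, ← h4]
      rw [h5]
      have h6 : ⁅(x : T), ι a⁆ ∈ ⁅ι.range, B⁆ := by
        rw [Subgroup.commutator_comm]
        exact Subgroup.commutator_mem_commutator x.2 ⟨a, rfl⟩
      exact hq h6)
    omega
  intro y hy
  apply H.ker y
  have h1 : g ⟨y, hy⟩ ∈ B' := ⟨_, rfl⟩
  rw [hB1, Subgroup.mem_bot] at h1
  exact h1

/-- **uniqueness** -/
theorem mem_max_iff [Finite T] [Finite A] (hA : Nat.card A = 2 ^ 11) (B : Subgroup T) :
    B ∈ maxElementaryAbelianSubgroups 2 T ↔ B = ι.range := by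
  have hfact : Fact (Nat.Prime 2) := ⟨Nat.prime_two⟩
  have hn := H.normal
  have key : ∀ B : Subgroup T, B ∈ maxElementaryAbelianSubgroups 2 T → B = ι.range := by
    intro B hB
    have hc : ∀ C ∈ maxElementaryAbelianSubgroups 2 T, 2 ^ 11 ≤ Nat.card C := by
      intro C hC
      rw [← H.card_range hA]
      exact hC.2 _ (H.elem)
    have hcomm : ⁅ι.range, B⁆ = ⊥ := by
      by_contra hne
      obtain ⟨C, hC, -, h1, h2⟩ := Cfsg.Agent.PLocal.ThompsonReplacement.exists_max_commutator_le ι.range (H.elem) hB hne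
      have h3 := H.not_quad hA hC.1 (hc C hC) h1
      apply h2
      rw [eq_bot_iff]
      calc ⁅ι.range, C⁆ ≤ ⁅ι.range, ι.range⁆ := Subgroup.commutator_mono le_rfl h3
        _ ≤ ⊥ := by
          rw [Subgroup.commutator_le]
          rintro _ ⟨a, rfl⟩ _ ⟨b, rfl⟩
          rw [Subgroup.mem_bot, commutatorElement_eq_one_iff_mul_comm, ← map_mul, ← map_mul, mul_comm]
    have h4 : B ≤ ι.range := H.not_quad hA hB.1 (hc B hB) (by rw [hcomm]; exact bot_le)
    exact Subgroup.eq_of_le_of_card_ge h4 (by rw [H.card_range hA]; exact hc B hB)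
  refine ⟨key B, ?_⟩
  rintro rfl
  obtain ⟨C, hC1, hC2⟩ := Set.exists_max_image {B : Subgroup T | IsElementaryAbelian 2 B}
    (fun B => Nat.card B) (Set.toFinite _) ⟨ι.range, H.elem⟩
  have hC : C ∈ maxElementaryAbelianSubgroups 2 T := ⟨hC1, hC2⟩
  rw [key C hC] at hC
  exact hC

end Ext

end Cfsg.Agent.H827.JT
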