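import Cfsg.Agent.H827.Coco
import Cfsg.Agent.H827.JT

/-!
# The Thompson subgroup of a Sylow 2-subgroup of `Fi24'` (helper827)

* `uniqN` : `AA` is the only elementary abelian subgroup of order at least `2^11` of its normalizer;
* `exists_theta` : for an isomorphism `e : G ≃* Fi24'` and a Sylow 2-subgroup `T` of `G` there is `θ = conj g ∘ e` with
  `AA.comap θ ≤ T ≤ N(AA.comap θ)`;
* `max_eq`, `thompson_eq` : the Thompson subgroup of `T` is `AA.comap θ`.
-/

set_option autoImplicit false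

namespace Cfsg.Agent.H827.JFi

open Cfsg Cfsg.Spor Subgroup Cfsg.Agent.H827 Cfsg.Agent.H827.Coco
open Cfsg.Agent.H827.CocoD (d e)
open Cfsg.Agent.KFacts.FiTTh.BasDef
open Cfsg.Agent.Schreier.CocodeSmall

/-! ### Unique elementary abelian subgroups -/

section abs

variable {G : Type*} [Group G] {T A B : Subgroup G}

theorem elem_subgroupOf (h : IsElementaryAbelian 2 B) : IsElementaryAbelian 2 (B.subgroupOf T) := by
  refine ⟨⟨⟨?_⟩⟩, ?_⟩
  · rintro ⟨a, ha⟩ ⟨b, hb⟩
    apply Subtype.ext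
    apply Subtype.ext
    have ha' : (a : G) ∈ B := mem_subgroupOf.1 ha
    have hb' : (b : G) ∈ B := mem_subgroupOf.1 hb
    exact congrArg (Subtype.val : ↥B → G) (h.1.is_comm.comm ⟨(a : G), ha'⟩ ⟨(b : G), hb'⟩)
  · intro a ha
    rw [mem_subgroupOf] at ha
    exact Subtype.ext (h.2 _ ha)

theorem elem_map {G' : Type*} [Group G'] (f : G →* G') (h : IsElementaryAbelian 2 B) :
    IsElementaryAbelian 2 (B.map f) := by
  refine ⟨⟨⟨?_⟩⟩, ?_⟩
  · rintro ⟨_, a, ha, rfl⟩ ⟨_, b, hb, rfl⟩
    apply Subtype.ext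
    show f a * f b = f b * f a
    rw [← map_mul, ← map_mul]
    exact congrArg f (congrArg Subtype.val (h.1.is_comm.comm ⟨a, ha⟩ ⟨b, hb⟩))
  · rintro _ ⟨a, ha, rfl⟩
    rw [← map_pow, h.2 a ha, map_one]

theorem elem_comap {G' : Type*} [Group G'] (f : G ≃* G') {B : Subgroup G'} (h : IsElementaryAbelian 2 B) :
    IsElementaryAbelian 2 (B.comap f.toMonoidHom) := by
  refine ⟨⟨⟨?_⟩⟩, ?_⟩
  · rintro ⟨a, ha⟩ ⟨b, hb⟩
    apply Subtype.ext
    apply f.injective
    show f (a * b) = f (b * a)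
    rw [map_mul, map_mul]
    exact congrArg Subtype.val (h.1.is_comm.comm ⟨f a, ha⟩ ⟨f b, hb⟩)
  · intro a ha
    apply f.injective
    rw [map_pow, map_one]
    exact h.2 _ ha

/-- `A` is the only elementary abelian subgroup of `T` of order at least `|A|` -/
structure UJ (T A : Subgroup G) : Prop where
  le : A ≤ T
  elem : IsElementaryAbelian 2 A
  uniq : ∀ B ≤ T, IsElementaryAbelian 2 B → Nat.card A ≤ Nat.card B → B = A

theorem UJ.max_eq (h : UJ T A) : maxElementaryAbelianSubgroups 2 ↥T = {A.subgroupOf T} := by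
  have hA : Nat.card ↥(A.subgroupOf T) = Nat.card A := Nat.card_congr (subgroupOfEquivOfLe h.le).toEquiv
  have key : ∀ B : Subgroup ↥T, IsElementaryAbelian 2 B → Nat.card A ≤ Nat.card B → B = A.subgroupOf T := by
    intro B hB hc
    have h1 : B.map T.subtype = A := by
      apply h.uniq _ (map_subtype_le B) (elem_map _ hB)
      rwa [Nat.card_congr (B.equivMapOfInjective _ T.subtype_injective).toEquiv.symm]
    rw [← h1]
    exact (comap_map_eq_self_of_injective T.subtype_injective B).symm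
  ext B
  rw [Set.mem_singleton_iff]
  constructor
  · intro hB
    apply key B hB.1
    rw [← hA]
    exact hB.2 _ (elem_subgroupOf h.elem)
  · rintro rfl
    refine ⟨elem_subgroupOf h.elem, fun B hB => ?_⟩
    by_contra hcon
    push Not at hcon
    rw [hA] at hcon
    have h1 := key B hB hcon.le
    rw [h1, hA] at hcon
    exact lt_irrefl _ hcon

theorem UJ.thompson_eq (h : UJ T A) : thompsonSubgroupOf 2 T = A := by
  unfold thompsonSubgroupOf thompsonSubgroup
  rw [h.max_eq, sSup_singleton, subgroupOf_map_subtype, inf_eq_left.2 h.le]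

end abs

/-! ### The normalizer -/

theorem ext : @JT.Ext ↥(normalizer (AA : Set Spor.Fi24')) _ ↥AA CocoD.pre.cg (eA e) CocoD.pre.pres
    (inclusion le_normalizer) ind := by
  let _ : CommGroup ↥AA := CocoD.pre.cg
  refine ⟨inclusion_injective _, ?_, ?_⟩
  · intro t a
    obtain ⟨S, hS, rfl⟩ := CocoD.pre.pres.hgen a
    rw [actE_prod _ _ hS]
    apply Subtype.ext
    have h1 : ((inclusion le_normalizer (∏ i ∈ S, eA e i) : ↥(normalizer (AA : Set Spor.Fi24'))) : Spor.Fi24') =
        pr e S := (CocoD.pre.pr_eq S).symm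
    have h2 : ((inclusion le_normalizer (∏ i ∈ S, eA e (((ind t : M24) : Equiv.Perm GolayPt) i)) :
        ↥(normalizer (AA : Set Spor.Fi24'))) : Spor.Fi24') =
        pr e (S.map (((ind t : M24) : Equiv.Perm GolayPt)).toEmbedding) := by
      rw [CocoD.pre.pr_eq]
      show ((∏ i ∈ S, eA e (((ind t : M24) : Equiv.Perm GolayPt) i) : ↥AA) : Spor.Fi24') = _
      congr 1
      exact (Finset.prod_map S (((ind t : M24) : Equiv.Perm GolayPt)).toEmbedding (eA e)).symm
    show (t : Spor.Fi24') * ((inclusion le_normalizer (∏ i ∈ S, eA e i) :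
      ↥(normalizer (AA : Set Spor.Fi24'))) : Spor.Fi24') * (t : Spor.Fi24')⁻¹ = _
    rw [h1, h2]
    exact conj_pr_even (ind_spec t) hS
  · intro t ht
    exact ⟨⟨t, (ind_ker t).1 ht⟩, rfl⟩

theorem finite : Finite Spor.Fi24' := Nat.finite_of_card_ne_zero (by rw [CocoD.card_eq]; norm_num)

theorem range_eq : (inclusion (le_normalizer : AA ≤ normalizer (AA : Set Spor.Fi24'))).range =
    AA.subgroupOf (normalizer (AA : Set Spor.Fi24')) := by
  ext x
  rw [mem_subgroupOf]
  constructor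
  · rintro ⟨a, rfl⟩
    exact a.2
  · intro h
    exact ⟨⟨x, h⟩, rfl⟩

/-- `AA` is elementary abelian -/
theorem elemAA : IsElementaryAbelian 2 AA := by
  refine ⟨⟨⟨?_⟩⟩, ?_⟩
  · exact CocoD.pre.comm_A
  · intro a ha
    rw [pow_two]
    exact CocoD.pre.sq_A ha

/-- **uniqueness in the normalizer** -/
theorem uniqN : UJ (normalizer (AA : Set Spor.Fi24')) AA := by
  have := finite
  refine ⟨le_normalizer, elemAA, fun B hB hel hc => ?_⟩
  let _ : CommGroup ↥AA := CocoD.pre.cg
  have hfin : Finite ↥AA := inferInstance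
  have h1 := ext.mem_max_iff cardA (AA.subgroupOf (normalizer (AA : Set Spor.Fi24')))
  rw [← range_eq] at h1
  have h2 := h1.2 rfl
  have h3 : B.subgroupOf (normalizer (AA : Set Spor.Fi24')) ∈
      maxElementaryAbelianSubgroups 2 ↥(normalizer (AA : Set Spor.Fi24')) := by
    refine ⟨elem_subgroupOf hel, fun C hC => (h2.2 C hC).trans ?_⟩
    rw [range_eq, Nat.card_congr (subgroupOfEquivOfLe hB).toEquiv,
      Nat.card_congr (subgroupOfEquivOfLe (le_normalizer : AA ≤ normalizer (AA : Set Spor.Fi24'))).toEquiv]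
    exact hc
  have h4 := (ext.mem_max_iff cardA _).1 h3
  rw [range_eq] at h4
  have h5 := subgroupOf_inj.1 h4
  rwa [inf_eq_left.2 hB, inf_eq_left.2 (le_normalizer : AA ≤ normalizer (AA : Set Spor.Fi24'))] at h5

/-! ### The Sylow 2-subgroups -/

/-- transport of `UJ` -/
theorem UJ.comap {G G' : Type*} [Group G] [Group G'] (θ : G ≃* G') {T A : Subgroup G'} (h : UJ T A) :
    UJ (T.comap θ.toMonoidHom) (A.comap θ.toMonoidHom) := by
  have hcard : ∀ B : Subgroup G, Nat.card ↥(B.map θ.toMonoidHom) = Nat.card B := fun B =>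
    Nat.card_congr (B.equivMapOfInjective _ θ.injective).toEquiv.symm
  have hmc : ∀ B : Subgroup G', (B.comap θ.toMonoidHom).map θ.toMonoidHom = B := fun B =>
    map_comap_eq_self_of_surjective θ.surjective B
  refine ⟨comap_mono h.le, elem_comap θ h.elem, fun B hB hel hc => ?_⟩
  have h1 : B.map θ.toMonoidHom = A := by
    apply h.uniq _ (map_le_iff_le_comap.2 hB) (elem_map _ hel)
    rw [hcard, ← hmc A, hcard]
    exact hc
  rw [← h1]
  exact (comap_map_eq_self_of_injective θ.injective B).symm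

theorem UJ.mono {G : Type*} [Group G] {T T' A : Subgroup G} (h : UJ T A) (h1 : T' ≤ T) (h2 : A ≤ T') : UJ T' A :=
  ⟨h2, h.elem, fun B hB => h.uniq B (hB.trans h1)⟩

theorem comap_normalizer {G G' : Type*} [Group G] [Group G'] (θ : G ≃* G') (A : Subgroup G') :
    normalizer ((A.comap θ.toMonoidHom : Subgroup G) : Set G) = (normalizer (A : Set G')).comap θ.toMonoidHom := by
  ext x
  rw [mem_comap, mem_normalizer_iff, mem_normalizer_iff]
  constructor
  · intro h y
    have h1 := h (θ.symm y)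
    have h2 : θ.symm y ∈ A.comap θ.toMonoidHom ↔ y ∈ A := by
      rw [mem_comap]
      show θ (θ.symm y) ∈ A ↔ _
      rw [θ.apply_symm_apply]
    have h3 : x * θ.symm y * x⁻¹ ∈ A.comap θ.toMonoidHom ↔ θ x * y * (θ x)⁻¹ ∈ A := by
      rw [mem_comap]
      show θ (x * θ.symm y * x⁻¹) ∈ A ↔ _
      rw [map_mul, map_mul, map_inv, θ.apply_symm_apply]
    rw [h2, h3] at h1
    exact h1
  · intro h y
    have h1 := h (θ y)
    rw [mem_comap, mem_comap]
    show θ y ∈ A ↔ θ (x * y * x⁻¹) ∈ A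
    rw [map_mul, map_mul, map_inv]
    exact h1

/-- **every Sylow 2-subgroup is conjugate into the normalizer** -/
theorem exists_theta {G : Type*} [Group G] [Finite G] (e0 : G ≃* Spor.Fi24') (T : Sylow 2 G) :
    ∃ g : Spor.Fi24', (T : Subgroup G) ≤
        normalizer ((AA.comap (e0.trans (MulAut.conj g)).toMonoidHom : Subgroup G) : Set G) ∧
      UJ (T : Subgroup G) (AA.comap (e0.trans (MulAut.conj g)).toMonoidHom) := by
  have := finite
  have hf : Fact (Nat.Prime 2) := ⟨Nat.prime_two⟩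
  -- `T` fixes a coset
  have hT : IsPGroup 2 ↥((T : Subgroup G).map e0.toMonoidHom) := T.isPGroup'.map _
  obtain ⟨c, hc⟩ := hT.nonempty_fixed_point_of_prime_not_dvd_card
    (Spor.Fi24' ⧸ normalizer (AA : Set Spor.Fi24')) odd_index
  obtain ⟨g, rfl⟩ := QuotientGroup.mk_surjective c
  have h1 : ∀ t ∈ (T : Subgroup G), g⁻¹ * e0 t * g ∈ normalizer (AA : Set Spor.Fi24') := by
    intro t ht
    have h2 := hc ⟨e0 t, t, ht, rfl⟩
    have h3 : ((e0 t * g : Spor.Fi24') : Spor.Fi24' ⧸ normalizer (AA : Set Spor.Fi24')) =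
      (g : Spor.Fi24' ⧸ normalizer (AA : Set Spor.Fi24')) := h2
    have h4 := QuotientGroup.eq.1 h3.symm
    rwa [← mul_assoc] at h4
  have h5 : (T : Subgroup G) ≤
      normalizer ((AA.comap (e0.trans (MulAut.conj g⁻¹)).toMonoidHom : Subgroup G) : Set G) := by
    rw [comap_normalizer]
    intro t ht
    rw [mem_comap]
    show g⁻¹ * e0 t * g⁻¹⁻¹ ∈ _
    rw [inv_inv]
    exact h1 t ht
  refine ⟨g⁻¹, h5, ?_⟩
  generalize e0.trans (MulAut.conj g⁻¹) = θ at h5
  -- `A ≤ T`
  have h6 : AA.comap θ.toMonoidHom ≤ (T : Subgroup G) := by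
    have hA : IsPGroup 2 ↥(AA.comap θ.toMonoidHom) :=
      (IsPGroup.of_card (n := 11) cardA).comap_of_injective _ θ.injective
    have h7 := T.is_maximal' (T.isPGroup'.to_sup_of_normal_right' hA h5) le_sup_left
    have h8 : AA.comap θ.toMonoidHom ≤ (T : Subgroup G) ⊔ AA.comap θ.toMonoidHom := le_sup_right
    rwa [h7] at h8
  refine UJ.mono ?_ h5 h6
  rw [comap_normalizer]
  exact uniqN.comap θ

end Cfsg.Agent.H827.JFi
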