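import Cfsg.Agent.H827.CocoD
import Cfsg.Agent.KFacts.FiTTh.BasInv
import Cfsg.Agent.R08.TetFi24A

/-!
# The subgroup `2^11 : M24` of `Fi24'` (helper827)

`A e = ⟨d p d q⟩`, elementary abelian of order `2^11`; its normalizer permutes the 24 transpositions `d p`
(`ind : N(A) →* M24`, surjective with kernel `A`), and `A` is self-centralizing.
-/

set_option autoImplicit false
set_option maxRecDepth 100000

namespace Cfsg.Agent.H827.Coco

open Cfsg Cfsg.Spor Subgroup Cfsg.Agent.R08 Cfsg.Agent.R08.FiTwentyFour Cfsg.Agent.R08.TetBasic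
open Cfsg.Agent.R08.TetTwo (IsTet)
open Cfsg.Agent.H827.CocoD (d e)
open Cfsg.Agent.KFacts.FiTTh Cfsg.Agent.KFacts.FiTTh.BasDef
open Cfsg.Agent.KFacts.FiTTh.BasCode (exists_map_emb exists_map_pair)
open Cfsg.Agent.Schreier.CocodeSmall
open Cfsg.Agent.J4Type.DuadStab Cfsg.Agent.J4Type.ClosingCocode

/-! ### Tetrads and pairs -/

section abs

variable {F : Type*} [Group F] {X : Set F} {s a b c d' u v : F}

theorem tet_aux (hT : Tr X) (h : IsTet X s a b c d') (hu : u ∈ X) (hv : v ∈ X) (huv : Commute u v) (hne : u ≠ v)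
    (hs : s = u * v) : d' = u ∨ d' = v := by
  by_contra hcon
  push Not at hcon
  obtain ⟨n1, n2⟩ := hcon
  obtain ⟨c1, c2⟩ := comm_of_comm_mul hT hu hv h.hd huv hne (hs ▸ h.comm_d)
  have h1 : a * b * c = d' * u * v := by
    have h2 := h.prod
    rw [hs] at h2
    have h3 : a * b * c * d' * d' = u * v * d' := by rw [h2]
    rw [mul_assoc, hT.sq d' h.hd, mul_one] at h3
    rw [h3, (c1.mul_right c2).symm.eq, mul_assoc]
  rcases tri_mem hT h.ha h.hb h.hc h.hd hu hv h.ab h.ac h.bc h.nab h.nac h.nbc c1 c2 huv n1 n2 hne h1 with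
    h4 | h4 | h4
  · exact h.nad h4.symm
  · exact h.nbd h4.symm
  · exact h.ncd h4.symm

/-- a product of four commuting transpositions is not a product of two -/
theorem tet_ne_pair (hT : Tr X) (h : IsTet X s a b c d') (hu : u ∈ X) (hv : v ∈ X) (huv : Commute u v)
    (hne : u ≠ v) : s ≠ u * v := by
  intro hs
  have h1 := tet_aux hT h hu hv huv hne hs
  have h2 := tet_aux hT h.sw34 hu hv huv hne hs
  have h3 := tet_aux hT h.sw24 hu hv huv hne hs
  have h4 := h.ncd
  have h5 := h.nbd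
  have h6 := h.nbc
  rcases h1 with h1 | h1 <;> rcases h2 with h2 | h2 <;> rcases h3 with h3 | h3 <;>
    subst_vars <;> simp_all

end abs

/-! ### The transpositions `d p` -/

theorem d_mem_L (p : GolayPt) : d p ∈ L := conj_mem_L (gen_mem_L _) _

theorem d_comm (p q : GolayPt) : Commute (d p) (d q) := CocoD.d_comm p q

theorem d_ne {p q : GolayPt} (h : p ≠ q) : d p ≠ d q := fun h1 => h (CocoD.d_inj h1)

theorem isTet {p q r s : GolayPt} (h1 : p ≠ q) (h2 : p ≠ r) (h3 : p ≠ s) (h4 : q ≠ r) (h5 : q ≠ s) (h6 : r ≠ s) :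
    IsTet L (d p * d q * d r * d s) (d p) (d q) (d r) (d s) :=
  ⟨d_mem_L p, d_mem_L q, d_mem_L r, d_mem_L s, d_comm p q, d_comm p r, d_comm p s, d_comm q r, d_comm q s,
    d_comm r s, d_ne h1, d_ne h2, d_ne h3, d_ne h4, d_ne h5, d_ne h6, rfl⟩

/-- the subgroup `A` -/
noncomputable abbrev AA : Subgroup Spor.Fi24' := A e

theorem e_mem (p q : GolayPt) : e p * e q ∈ AA := mul_mem (mem_A e p) (mem_A e q)

theorem coe_two (p q : GolayPt) : ((e p * e q : Spor.Fi24') : Fi24) = d p * d q := CocoD.e_mul p q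

theorem coe_three (p q r : GolayPt) : ((e p * e q * e r : Spor.Fi24') : Fi24) = d p * d q * d r * d none := by
  rw [Subgroup.coe_mul, coe_two, CocoD.coe_e, mul_assoc (d p * d q)]

/-- the elements of `A` -/
theorem cases {a : Spor.Fi24'} (ha : a ∈ AA) : a = 1 ∨ (∃ p q, p ≠ q ∧ (a : Fi24) = d p * d q) ∨
    ∃ p q r s, p ≠ q ∧ p ≠ r ∧ p ≠ s ∧ q ≠ r ∧ q ≠ s ∧ r ≠ s ∧ (a : Fi24) = d p * d q * d r * d s := by
  obtain ⟨T, hn, hT, rfl⟩ := CocoD.pre.exists_pr ha
  have h4 : T.card = 0 ∨ T.card = 1 ∨ T.card = 2 ∨ T.card = 3 := by omega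
  rcases h4 with h | h | h | h
  · left
    rw [Finset.card_eq_zero.1 h, pr_empty]
  · right; left
    obtain ⟨p, rfl⟩ := Finset.card_eq_one.1 h
    refine ⟨p, none, fun h1 => hn (by rw [h1]; exact Finset.mem_singleton_self _), ?_⟩
    rw [pr_singleton]
    rfl
  · right; left
    obtain ⟨p, q, hpq, rfl⟩ := Finset.card_eq_two.1 h
    refine ⟨p, q, hpq, ?_⟩
    rw [CocoD.pre.pr_pair hpq, coe_two]
  · right; right
    obtain ⟨p, q, r, hpq, hpr, hqr, rfl⟩ := Finset.card_eq_three.1 h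
    have hn1 : p ≠ none := fun h1 => hn (by rw [h1]; simp)
    have hn2 : q ≠ none := fun h1 => hn (by rw [h1]; simp)
    have hn3 : r ≠ none := fun h1 => hn (by rw [h1]; simp)
    refine ⟨p, q, r, none, hpq, hpr, hn1, hqr, hn2, hn3, ?_⟩
    rw [CocoD.pre.pr_insert (by simp [hpq, hpr]), CocoD.pre.pr_pair hqr, ← mul_assoc, coe_three]

/-! ### The centralizer -/

/-- an element commuting with all pairs commutes with all the `d p` -/
theorem fix_of_comm {x : Fi24} (h : ∀ p q, x * (d p * d q) = d p * d q * x) (p : GolayPt) :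
    x * d p * x⁻¹ = d p := by
  have key : ∀ p q : GolayPt, p ≠ q → x * d p * x⁻¹ = d p ∨ x * d p * x⁻¹ = d q := by
    intro p q hpq
    have h1 : d p * d q = (x * d p * x⁻¹) * (x * d q * x⁻¹) := by
      calc d p * d q = d p * d q * x * x⁻¹ := by group
        _ = x * (d p * d q) * x⁻¹ := by rw [h]
        _ = _ := by group
    rcases pair_unique TetFi24A.tr (d_mem_L p) (d_mem_L q) (FiTwentyFour.conj (d_mem_L p) x)
      (FiTwentyFour.conj (d_mem_L q) x) (d_comm p q) (d_ne hpq) (by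
        show x * d p * x⁻¹ * (x * d q * x⁻¹) = x * d q * x⁻¹ * (x * d p * x⁻¹)
        have h2 := (d_comm p q).eq
        calc x * d p * x⁻¹ * (x * d q * x⁻¹) = x * (d p * d q) * x⁻¹ := by group
          _ = x * (d q * d p) * x⁻¹ := by rw [h2]
          _ = _ := by group) h1 with h3 | h3
    · exact Or.inl h3.1
    · exact Or.inr h3.1
  obtain ⟨q, r, hq, hr, hqr⟩ : ∃ q r : GolayPt, p ≠ q ∧ p ≠ r ∧ q ≠ r := by
    revert p
    decide +kernel
  rcases key p q hq with h1 | h1
  · exact h1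
  rcases key p r hr with h2 | h2
  · exact h2
  exact absurd (h1.symm.trans h2) (d_ne hqr)


theorem phi_mem (x : Spor.Fi24') (h : (x : Fi24) * d none = d none * (x : Fi24)) : ∃ y : Fi23, FiTwentyFour.facts.phi y = x := by
  rw [FiTwentyFour.facts.mem_range_iff]
  rw [CocoD.d_none] at h
  exact ⟨h, mem_commutator_iff.1 x.2⟩

/-- the elements of `Fi23` above the `e p` -/
theorem exists_delta (p : GolayPt) : ∃ y : Fi23, FiTwentyFour.facts.phi y = (e p : Fi24) := phi_mem _ (by
  rw [CocoD.coe_e]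
  exact ((d_comm p none).mul_left (Commute.refl (d none))).eq)

/-- the elements of `Fi23` above the `e p` -/
noncomputable def δ (p : GolayPt) : Fi23 := (exists_delta p).choose

theorem phi_δ (p : GolayPt) : FiTwentyFour.facts.phi (δ p) = (e p : Fi24) := (exists_delta p).choose_spec

theorem phi_inj {x y : Fi23} (h : FiTwentyFour.facts.phi x = FiTwentyFour.facts.phi y) : x = y := FiTwentyFour.facts.phi_injective h

theorem pre_δ : Pre δ where
  zero := by
    apply phi_inj
    rw [phi_δ, CocoD.pre.zero, map_one]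
    rfl
  sq p := by
    apply phi_inj
    rw [map_mul, phi_δ, map_one]
    exact congrArg Subtype.val (CocoD.pre.sq p)
  comm p q := by
    apply phi_inj
    rw [map_mul, map_mul, phi_δ, phi_δ]
    exact congrArg Subtype.val (CocoD.pre.comm p q)
  inj p q h := by
    apply CocoD.pre.inj
    apply Subtype.ext
    rw [← phi_δ, ← phi_δ, h]
  oct := by
    obtain ⟨l, h1, h2, h3, h4⟩ := CocoD.pre.oct
    refine ⟨l, h1, h2, h3, ?_⟩
    apply phi_inj
    rw [map_list_prod, List.map_map, map_one]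
    have h5 := congrArg (commutator Fi24).subtype h4
    rw [map_list_prod, List.map_map, map_one] at h5
    rw [← h5]
    congr 2
    funext p
    exact phi_δ p
  full m hm := by
    obtain ⟨h1, h2⟩ := mem_M23.1 hm
    obtain ⟨n, hn⟩ := CocoD.full ⟨m, h1⟩
    have h3 := hn none
    rw [show ((⟨m, h1⟩ : M24) : Equiv.Perm GolayPt) none = none from h2] at h3
    obtain ⟨y, hy⟩ := phi_mem n (mul_inv_eq_iff_eq_mul.1 h3)
    refine ⟨y, fun p => phi_inj ?_⟩
    rw [map_mul, map_mul, map_inv, hy, phi_δ, phi_δ, CocoD.coe_e, CocoD.coe_e]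
    have h4 := hn p
    calc (n : Fi24) * (d p * d none) * (n : Fi24)⁻¹ = ((n : Fi24) * d p * (n : Fi24)⁻¹) *
          ((n : Fi24) * d none * (n : Fi24)⁻¹) := by group
      _ = _ := by rw [h4, h3]

/-- the subgroup of `Fi23` is self-centralizing -/
theorem cen_δ {y : Fi23} (h : ∀ p, y * δ p = δ p * y) : y ∈ A δ := by
  have := BasInv.finite
  have hf : Fact (Nat.Prime 2) := ⟨Nat.prime_two⟩
  have hp1 : IsPGroup 2 ↥(A BasFi.e) := IsPGroup.of_card (n := 11) BasFi.pre.cardA
  have hp2 : IsPGroup 2 ↥(A δ) := IsPGroup.of_card (n := 11) pre_δ.cardA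
  obtain ⟨S, hS⟩ := hp1.exists_le_sylow
  obtain ⟨S', hS'⟩ := hp2.exists_le_sylow
  obtain ⟨g, hg⟩ := MulAction.exists_smul_eq Fi23 S' S
  have h1 : (A δ).map (MulAut.conj g).toMonoidHom ≤ (S : Subgroup Fi23) := by
    rw [← hg]
    rintro _ ⟨x, hx, rfl⟩
    rw [Sylow.coe_subgroup_smul]
    exact Subgroup.smul_mem_pointwise_smul _ _ _ (hS' hx)
  have h2 : (A δ).map (MulAut.conj g).toMonoidHom = A BasFi.e := by
    apply BasInv.uniq S hS _ h1
    · rintro _ ⟨x, hx, rfl⟩
      rw [← map_mul, pre_δ.sq_A hx, map_one]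
    · rw [Nat.card_congr ((A δ).equivMapOfInjective _ (MulAut.conj g).injective).toEquiv.symm, pre_δ.cardA]
  have h3 : g * y * g⁻¹ ∈ A BasFi.e := by
    apply BasInv.base.self
    intro b hb
    rw [← h2] at hb
    obtain ⟨x, hx, rfl⟩ := hb
    show g * y * g⁻¹ * (g * x * g⁻¹) = g * x * g⁻¹ * (g * y * g⁻¹)
    have h4 : y * x = x * y := by
      have h5 : A δ ≤ centralizer ({y} : Set Fi23) := by
        unfold A
        rw [closure_le]
        rintro _ ⟨p, rfl⟩
        rw [SetLike.mem_coe, mem_centralizer_singleton_iff]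
        exact (h p).symm
      exact (mem_centralizer_singleton_iff.1 (h5 hx)).symm
    calc g * y * g⁻¹ * (g * x * g⁻¹) = g * (y * x) * g⁻¹ := by group
      _ = g * (x * y) * g⁻¹ := by rw [h4]
      _ = _ := by group
  rw [← h2] at h3
  obtain ⟨x, hx, hxy⟩ := h3
  have h6 : g * x * g⁻¹ = g * y * g⁻¹ := hxy
  rw [← mul_left_cancel (mul_right_cancel h6)]
  exact hx

/-- **`A` is self-centralizing** -/
theorem cen {x : Spor.Fi24'} (h : ∀ a ∈ AA, x * a = a * x) : x ∈ AA := by
  have h1 : ∀ p, (x : Fi24) * d p * (x : Fi24)⁻¹ = d p := fix_of_comm (fun p q => by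
    rw [← coe_two]
    exact congrArg Subtype.val (h _ (e_mem p q)))
  obtain ⟨y, hy⟩ := phi_mem x (mul_inv_eq_iff_eq_mul.1 (h1 none))
  have h2 : y ∈ A δ := cen_δ (fun p => phi_inj (by
    rw [map_mul, map_mul, hy, phi_δ]
    exact congrArg Subtype.val (h _ (mem_A e p))))
  have h3 : ∀ z ∈ A δ, ∃ w ∈ AA, (w : Fi24) = FiTwentyFour.facts.phi z := by
    intro z hz
    unfold A at hz
    induction hz using closure_induction with
    | mem z hz =>
      obtain ⟨p, rfl⟩ := hz
      exact ⟨e p, mem_A e p, (phi_δ p).symm⟩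
    | one => exact ⟨1, one_mem _, (map_one _).symm⟩
    | mul a b _ _ ha hb =>
      obtain ⟨v, hv, h4⟩ := ha
      obtain ⟨w, hw, h5⟩ := hb
      exact ⟨v * w, mul_mem hv hw, by rw [Subgroup.coe_mul, h4, h5, map_mul]⟩
    | inv a _ ha =>
      obtain ⟨v, hv, h4⟩ := ha
      exact ⟨v⁻¹, inv_mem hv, by rw [Subgroup.coe_inv, h4, map_inv]⟩
  obtain ⟨w, hw, h4⟩ := h3 y h2
  rw [hy] at h4
  rwa [← Subtype.ext h4]

/-! ### The normalizer -/

theorem conj_pr {n : Spor.Fi24'} {m : Equiv.Perm GolayPt}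
    (h : ∀ p, (n : Fi24) * d p * (n : Fi24)⁻¹ = d (m p)) (T : Finset GolayPt) :
    n * pr e T * n⁻¹ = pr e (T.map m.toEmbedding) * e (m none) ^ T.card := by
  have he : ∀ p, n * e p * n⁻¹ = e (m p) * e (m none) := by
    intro p
    apply Subtype.ext
    rw [coe_two, ← h, ← h]
    show (n : Fi24) * (d p * d none) * (n : Fi24)⁻¹ = _
    group
  induction T using Finset.induction_on with
  | empty => rw [Finset.map_empty, pr_empty, Finset.card_empty, pow_zero]; group
  | insert p T hp ih =>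
    rw [CocoD.pre.pr_insert hp, Finset.map_insert, Equiv.coe_toEmbedding, CocoD.pre.pr_insert (by
      intro h1
      obtain ⟨q, hq, hqp⟩ := Finset.mem_map.1 h1
      exact hp (m.injective hqp ▸ hq)), Finset.card_insert_of_notMem hp, pow_succ']
    have h2 : e (m none) * pr e (T.map m.toEmbedding) = pr e (T.map m.toEmbedding) * e (m none) :=
      CocoD.pre.comm' (mem_A e _) (CocoD.pre.pr_mem _)
    calc n * (e p * pr e T) * n⁻¹ = (n * e p * n⁻¹) * (n * pr e T * n⁻¹) := by group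
      _ = e (m p) * e (m none) * (pr e (T.map m.toEmbedding) * e (m none) ^ T.card) := by rw [he, ih]
      _ = e (m p) * (e (m none) * pr e (T.map m.toEmbedding)) * e (m none) ^ T.card := by group
      _ = _ := by rw [h2]; group

theorem conj_pr_even {n : Spor.Fi24'} {m : Equiv.Perm GolayPt}
    (h : ∀ p, (n : Fi24) * d p * (n : Fi24)⁻¹ = d (m p)) {T : Finset GolayPt} (hT : Even T.card) :
    n * pr e T * n⁻¹ = pr e (T.map m.toEmbedding) := by
  rw [conj_pr h T]
  obtain ⟨k, hk⟩ := hT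
  rw [hk, ← two_mul, pow_mul, pow_two, CocoD.pre.sq, one_pow, mul_one]

theorem exists_perm {n : Spor.Fi24'} (hn : n ∈ normalizer (AA : Set Spor.Fi24')) :
    ∃ m ∈ M24, ∀ p, (n : Fi24) * d p * (n : Fi24)⁻¹ = d (m p) := by
  classical
  have h1 : ∀ p, ∃ q, (n : Fi24) * d p * (n : Fi24)⁻¹ = d q := by
    intro p
    obtain ⟨q, hq⟩ : ∃ q : GolayPt, p ≠ q := by
      revert p
      decide +kernel
    have h2 : n * (e p * e q) * n⁻¹ ∈ AA := (mem_normalizer_iff.1 hn _).1 (e_mem p q)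
    have h3 : ((n * (e p * e q) * n⁻¹ : Spor.Fi24') : Fi24) = ((n : Fi24) * d p * (n : Fi24)⁻¹) *
        ((n : Fi24) * d q * (n : Fi24)⁻¹) := by
      rw [Subgroup.coe_mul, Subgroup.coe_mul, coe_two, Subgroup.coe_inv]
      group
    have hu := FiTwentyFour.conj (d_mem_L p) (n : Fi24)
    have hv := FiTwentyFour.conj (d_mem_L q) (n : Fi24)
    have hne : (n : Fi24) * d p * (n : Fi24)⁻¹ ≠ (n : Fi24) * d q * (n : Fi24)⁻¹ := fun h =>
      d_ne hq (mul_left_cancel (mul_right_cancel h))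
    have huv : Commute ((n : Fi24) * d p * (n : Fi24)⁻¹) ((n : Fi24) * d q * (n : Fi24)⁻¹) := by
      have h4 := (d_comm p q).eq
      show (n : Fi24) * d p * (n : Fi24)⁻¹ * ((n : Fi24) * d q * (n : Fi24)⁻¹) =
        (n : Fi24) * d q * (n : Fi24)⁻¹ * ((n : Fi24) * d p * (n : Fi24)⁻¹)
      calc (n : Fi24) * d p * (n : Fi24)⁻¹ * ((n : Fi24) * d q * (n : Fi24)⁻¹)
          = (n : Fi24) * (d p * d q) * (n : Fi24)⁻¹ := by group
        _ = (n : Fi24) * (d q * d p) * (n : Fi24)⁻¹ := by rw [h4]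
        _ = _ := by group
    rcases cases h2 with h | ⟨a, b, hab, h⟩ | ⟨a, b, c, r, h5, h6, h7, h8, h9, h10, h⟩
    · exfalso
      rw [h] at h3
      apply hne
      have h4 := FiTwentyFour.sq hv
      have h5 : (n : Fi24) * d p * (n : Fi24)⁻¹ * ((n : Fi24) * d q * (n : Fi24)⁻¹) =
        (n : Fi24) * d q * (n : Fi24)⁻¹ * ((n : Fi24) * d q * (n : Fi24)⁻¹) := by
        rw [← h3, h4]
        rfl
      exact mul_right_cancel h5
    · rw [h] at h3
      rcases pair_unique TetFi24A.tr (d_mem_L a) (d_mem_L b) hu hv (d_comm a b) (d_ne hab) huv h3 with h4 | h4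
      · exact ⟨a, h4.1⟩
      · exact ⟨b, h4.1⟩
    · exfalso
      rw [h] at h3
      exact tet_ne_pair TetFi24A.tr (isTet h5 h6 h7 h8 h9 h10) hu hv huv hne h3
  choose f hf using h1
  have hfi : Function.Injective f := by
    intro p q hpq
    apply CocoD.d_inj
    have h2 : (n : Fi24) * d p * (n : Fi24)⁻¹ = (n : Fi24) * d q * (n : Fi24)⁻¹ := by rw [hf, hf, hpq]
    exact mul_left_cancel (mul_right_cancel h2)
  let m : Equiv.Perm GolayPt := Equiv.ofBijective f (Finite.injective_iff_bijective.1 hfi)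
  have hm : ∀ p, (n : Fi24) * d p * (n : Fi24)⁻¹ = d (m p) := hf
  refine ⟨m, ?_, hm⟩
  rw [SporadicA.GolayPerm.mem_M24_iff]
  intro s hs
  have hev : Even s.card := by
    have := SporadicA.GolayBase.card_of_mem_supports hs
    rw [Nat.even_iff]
    omega
  rw [SporadicA.GolayPerm.smul_finset_eq_map, ← CocoD.pre.ker_iff (by rw [Finset.card_map]; exact hev),
    ← conj_pr_even hm hev, (CocoD.pre.ker_iff hev).2 hs]
  group

theorem perm_unique {n : Spor.Fi24'} {m m' : Equiv.Perm GolayPt}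
    (h : ∀ p, (n : Fi24) * d p * (n : Fi24)⁻¹ = d (m p))
    (h' : ∀ p, (n : Fi24) * d p * (n : Fi24)⁻¹ = d (m' p)) : m = m' := by
  ext1 p
  apply CocoD.d_inj
  rw [← h, ← h']

theorem mem_normalizer_of {n : Spor.Fi24'} {m : Equiv.Perm GolayPt}
    (h : ∀ p, (n : Fi24) * d p * (n : Fi24)⁻¹ = d (m p)) : n ∈ normalizer (AA : Set Spor.Fi24') := by
  have key : ∀ {n : Spor.Fi24'} {m : Equiv.Perm GolayPt}, (∀ p, (n : Fi24) * d p * (n : Fi24)⁻¹ = d (m p)) →
      ∀ x ∈ AA, n * x * n⁻¹ ∈ AA := by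
    intro n m h x hx
    obtain ⟨T, hT, rfl⟩ := CocoD.pre.exists_even hx
    rw [conj_pr_even h hT]
    exact CocoD.pre.pr_mem _
  rw [mem_normalizer_iff]
  intro x
  refine ⟨fun hx => key h x hx, fun hx => ?_⟩
  have h' : ∀ p, ((n⁻¹ : Spor.Fi24') : Fi24) * d p * ((n⁻¹ : Spor.Fi24') : Fi24)⁻¹ = d (m⁻¹ p) := by
    intro p
    have h1 := h (m⁻¹ p)
    rw [show m (m⁻¹ p) = p from m.apply_symm_apply p] at h1
    rw [← h1, Subgroup.coe_inv]
    group
  have h2 := key h' _ hx
  rwa [show n⁻¹ * (n * x * n⁻¹) * (n⁻¹)⁻¹ = x by group] at h2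

/-- **the action of `N(A)` on the 24 points** -/
noncomputable def ind : ↥(normalizer (AA : Set Spor.Fi24')) →* ↥M24 :=
  MonoidHom.mk' (fun n => ⟨Classical.choose (exists_perm n.2), (Classical.choose_spec (exists_perm n.2)).1⟩) (by
    intro a b
    apply Subtype.ext
    apply perm_unique (n := (a : Spor.Fi24') * b)
    · intro p
      exact (Classical.choose_spec (exists_perm (a * b).2)).2 p
    · intro p
      show ((a : Spor.Fi24') : Fi24) * ((b : Spor.Fi24') : Fi24) * d p *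
        (((a : Spor.Fi24') : Fi24) * ((b : Spor.Fi24') : Fi24))⁻¹ = d (Classical.choose (exists_perm a.2)
        (Classical.choose (exists_perm b.2) p))
      rw [← (Classical.choose_spec (exists_perm a.2)).2, ← (Classical.choose_spec (exists_perm b.2)).2]
      group)

theorem ind_spec (n : ↥(normalizer (AA : Set Spor.Fi24'))) (p : GolayPt) :
    ((n : Spor.Fi24') : Fi24) * d p * ((n : Spor.Fi24') : Fi24)⁻¹ = d (((ind n : M24) : Equiv.Perm GolayPt) p) :=
  (Classical.choose_spec (exists_perm n.2)).2 p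

theorem ind_eq {n : ↥(normalizer (AA : Set Spor.Fi24'))} {m : Equiv.Perm GolayPt}
    (h : ∀ p, ((n : Spor.Fi24') : Fi24) * d p * ((n : Spor.Fi24') : Fi24)⁻¹ = d (m p)) :
    ((ind n : M24) : Equiv.Perm GolayPt) = m :=
  perm_unique (ind_spec n) h

theorem ind_surj : Function.Surjective ind := by
  intro m
  obtain ⟨n, hn⟩ := CocoD.full m
  exact ⟨⟨n, mem_normalizer_of hn⟩, Subtype.ext (ind_eq hn)⟩

theorem d_comm_A {a : Spor.Fi24'} (ha : a ∈ AA) (p : GolayPt) : (a : Fi24) * d p = d p * (a : Fi24) := by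
  rcases cases ha with rfl | ⟨q, r, -, h⟩ | ⟨q, r, s, t, -, -, -, -, -, -, h⟩
  · show 1 * d p = d p * 1
    rw [one_mul, mul_one]
  · rw [h]
    exact ((d_comm q p).mul_left (d_comm r p)).eq
  · rw [h]
    exact ((((d_comm q p).mul_left (d_comm r p)).mul_left (d_comm s p)).mul_left (d_comm t p)).eq

theorem ind_ker (n : ↥(normalizer (AA : Set Spor.Fi24'))) : ind n = 1 ↔ (n : Spor.Fi24') ∈ AA := by
  constructor
  · intro h
    apply cen
    intro a ha
    have h1 : ∀ p, ((n : Spor.Fi24') : Fi24) * d p = d p * ((n : Spor.Fi24') : Fi24) := by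
      intro p
      have h2 := ind_spec n p
      rw [h] at h2
      exact mul_inv_eq_iff_eq_mul.1 h2
    unfold AA A at ha
    have h3 : closure (Set.range e) ≤ centralizer ({(n : Spor.Fi24')} : Set Spor.Fi24') := by
      rw [closure_le]
      rintro _ ⟨p, rfl⟩
      rw [SetLike.mem_coe, mem_centralizer_singleton_iff]
      apply Subtype.ext
      show d p * d none * ((n : Spor.Fi24') : Fi24) = ((n : Spor.Fi24') : Fi24) * (d p * d none)
      rw [mul_assoc, ← h1, ← mul_assoc, ← h1, mul_assoc]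
    exact (mem_centralizer_singleton_iff.1 (h3 ha)).symm
  · intro h
    apply Subtype.ext
    apply ind_eq
    intro p
    rw [d_comm_A h, mul_inv_cancel_right]
    rfl

theorem cardA : Nat.card AA = 2 ^ 11 := CocoD.pre.cardA

theorem ker_eq : ind.ker = AA.subgroupOf (normalizer (AA : Set Spor.Fi24')) := by
  ext n
  rw [MonoidHom.mem_ker, ind_ker, mem_subgroupOf]

theorem cardN : Nat.card (normalizer (AA : Set Spor.Fi24')) = 2 ^ 11 * 244823040 := by
  have h1 : Nat.card ind.ker * Nat.card ind.range = Nat.card (normalizer (AA : Set Spor.Fi24')) := by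
    rw [← Subgroup.index_ker]
    exact Subgroup.card_mul_index _
  have h2 : Nat.card ind.range = 244823040 := by
    rw [MonoidHom.range_eq_top.2 ind_surj, Subgroup.card_top]
    exact Cfsg.Agent.SporadicA.M24Trans.card_M24
  have h4 : Nat.card ind.ker = 2 ^ 11 := by
    rw [ker_eq, Nat.card_congr (Subgroup.subgroupOfEquivOfLe le_normalizer).toEquiv, cardA]
  rw [← h1, h2, h4]

theorem odd_index : ¬ 2 ∣ (normalizer (AA : Set Spor.Fi24')).index := by
  have h1 := card_mul_index (normalizer (AA : Set Spor.Fi24'))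
  rw [cardN, CocoD.card_eq] at h1
  intro h2
  obtain ⟨k, hk⟩ := h2
  rw [hk] at h1
  omega

end Cfsg.Agent.H827.Coco
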