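import Cfsg.Agent.H827.FourListB
import Cfsg.Agent.H921.SporCore
import Cfsg.Agent.H900.N4.Asm
import Cfsg.Agent.S0000
import Cfsg.Agent.S5746

/-!
# The list in degree four for the assemblies of helper900
-/

set_option autoImplicit false

universe u

namespace Cfsg.Agent.H827.FourList

open Cfsg Cfsg.Geo Cfsg.Agent.H915.LD
open scoped MatrixGroups

variable {F : Type u} [Field F] [Fintype F]

/-- `G₂(4)` contains `J₂`. -/
theorem not_g24 {P : Subgroup (GL (Fin 4) F)} (hC : Core P) (h : Cfsg.Agent.H912.Bd.IsG2 4 (Soc P)) : False := by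
  obtain ⟨K, i1, i2, hK, ⟨e⟩⟩ := h
  obtain ⟨H, -, ⟨eH⟩, -⟩ := S5746.result hK
  have h7 : Cfsg.Agent.H921.Spor.Orb 7 6 (Cfsg.Lie.chevG2.group K) :=
    (Cfsg.Agent.H921.Spor.J2.J2_seven.of_equiv' eH).of_sub
  have h5 : Cfsg.Agent.H921.Spor.Orb 5 6 (Cfsg.Lie.chevG2.group K) :=
    (Cfsg.Agent.H921.Spor.J2.J2_five.of_equiv' eH).of_sub
  have := Cfsg.Agent.H921.Spor.core_le hC e (m := 6) (bad := [2])
    (Cfsg.Agent.H921.Spor.Pr2.mk' 7 5 h7 h5 (by norm_num) (by norm_num) (by norm_num)) (by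
      intro r hr hb hd
      apply hb
      rw [List.mem_singleton]
      exact (Nat.prime_dvd_prime_iff_eq hr Nat.prime_two).1 (hr.dvd_of_dvd_pow (show r ∣ 2 ^ 2 from hd)))
  omega

/-- **The list in degree four.** -/
theorem four_of {p : ℕ} [hp : Fact p.Prime] [CharP F p] {P : Subgroup (GL (Fin 4) F)} (hC : Core P) :
    Cfsg.Agent.H900.N4.Four p (Soc P) := by
  have := hC.simple
  rcases four_list' (p := p) P hC.perfect (MulEquiv.refl (Soc P)) S0000.result hC.nonabelian with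
    h | h | ⟨h2, h⟩ | ⟨-, h⟩ | h
  · unfold Small4 at h
    unfold Cfsg.Agent.H900.N4.Four
    tauto
  · exact Or.inr (Or.inr (Or.inr (Or.inr (Or.inr (Or.inr h)))))
  · exact (not_g24 hC h).elim
  · exact (Cfsg.Agent.H921.Spor.core_four hC (Or.inr h)).elim
  · exact (Cfsg.Agent.H921.Spor.core_four hC (Or.inl h)).elim

end Cfsg.Agent.H827.FourList
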