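import Cfsg.Agent.R08.TetFi24A

/-!
# Transitivity of `Fi24'` on commuting quadruples of transpositions (helper827)
-/

set_option autoImplicit false

namespace Cfsg.Agent.H827.Trans

open Cfsg Cfsg.Spor Cfsg.Agent.R01 Cfsg.Agent.R08 Cfsg.Agent.R08.FiTwentyFour
open Cfsg.Agent.R08.TetTwo (IsTet)
open Cfsg.Agent.R08.TetFi24A (At Nb exists_at)

theorem conj_comm {a b g : Fi24} (h : Commute a b) : Commute (g * a * g⁻¹) (g * b * g⁻¹) := by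
  show g * a * g⁻¹ * (g * b * g⁻¹) = g * b * g⁻¹ * (g * a * g⁻¹)
  have h1 := h.eq
  calc g * a * g⁻¹ * (g * b * g⁻¹) = g * (a * b) * g⁻¹ := by group
    _ = g * (b * a) * g⁻¹ := by rw [h1]
    _ = _ := by group

theorem conj_ne {a b g : Fi24} (h : a ≠ b) : g * a * g⁻¹ ≠ g * b * g⁻¹ := fun h1 =>
  h (mul_left_cancel (mul_right_cancel h1))

/-- the elements of `C(a,b)` act on the neighbours -/
theorem conj_x {a b c c' : Fi24} (P : At a b) (n : Cab a b) (hc : Nb a b c) (hc' : Nb a b c')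
    (h : P.π n * P.π (P.x hc) * (P.π n)⁻¹ = P.π (P.x hc')) : (n : Fi24) * c * (n : Fi24)⁻¹ = c' := by
  obtain ⟨-, h1, h2⟩ := mem_Cab.1 n.2
  have hca : (n : Fi24) * a * (n : Fi24)⁻¹ = a := mul_inv_eq_iff_eq_mul.2 h1
  have hcb : (n : Fi24) * b * (n : Fi24)⁻¹ = b := mul_inv_eq_iff_eq_mul.2 h2
  have hn : Nb a b ((n : Fi24) * c * (n : Fi24)⁻¹) := by
    refine ⟨FiTwentyFour.conj hc.hc _, ?_, ?_, ?_, ?_⟩
    · have h3 : Commute ((n : Fi24) * c * (n : Fi24)⁻¹) ((n : Fi24) * a * (n : Fi24)⁻¹) := conj_comm hc.ca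
      rwa [hca] at h3
    · have h3 : Commute ((n : Fi24) * c * (n : Fi24)⁻¹) ((n : Fi24) * b * (n : Fi24)⁻¹) := conj_comm hc.cb
      rwa [hcb] at h3
    · have h3 : (n : Fi24) * c * (n : Fi24)⁻¹ ≠ (n : Fi24) * a * (n : Fi24)⁻¹ := conj_ne hc.na
      rwa [hca] at h3
    · have h3 : (n : Fi24) * c * (n : Fi24)⁻¹ ≠ (n : Fi24) * b * (n : Fi24)⁻¹ := conj_ne hc.nb
      rwa [hcb] at h3
  apply P.x_eq hn hc'
  rw [← h, ← map_inv, ← map_mul, ← map_mul]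
  congr 1
  apply Subtype.ext
  rw [P.coe_x, Subgroup.coe_mul, Subgroup.coe_mul, P.coe_x, Subgroup.coe_inv]
  calc a * ((n : Fi24) * c * (n : Fi24)⁻¹) = ((n : Fi24) * a * (n : Fi24)⁻¹) * ((n : Fi24) * c * (n : Fi24)⁻¹) := by
        rw [hca]
    _ = _ := by group

/-- **Transitivity on commuting quadruples.** -/
theorem trans4 {s s' a b c d a' b' c' d' : Fi24} (h : IsTet L s a b c d) (h' : IsTet L s' a' b' c' d') :
    ∃ g ∈ commutator Fi24, g * a * g⁻¹ = a' ∧ g * b * g⁻¹ = b' ∧ g * c * g⁻¹ = c' ∧ g * d * g⁻¹ = d' := by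
  obtain ⟨g, hg, ga, gb⟩ := FiTwentyFour.trans2 h.ha h.hb h'.ha h'.hb h.nab h.ab h'.nab h'.ab
  obtain ⟨P⟩ := exists_at h'.ha h'.hb h'.nab h'.ab
  have Hc : Nb a' b' (g * c * g⁻¹) := by
    refine ⟨FiTwentyFour.conj h.hc _, ?_, ?_, ?_, ?_⟩
    · have h3 : Commute (g * c * g⁻¹) (g * a * g⁻¹) := conj_comm h.ac.symm
      rwa [ga] at h3
    · have h3 : Commute (g * c * g⁻¹) (g * b * g⁻¹) := conj_comm h.bc.symm
      rwa [gb] at h3
    · have h3 : g * c * g⁻¹ ≠ g * a * g⁻¹ := conj_ne h.nac.symm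
      rwa [ga] at h3
    · have h3 : g * c * g⁻¹ ≠ g * b * g⁻¹ := conj_ne h.nbc.symm
      rwa [gb] at h3
  have Hd : Nb a' b' (g * d * g⁻¹) := by
    refine ⟨FiTwentyFour.conj h.hd _, ?_, ?_, ?_, ?_⟩
    · have h3 : Commute (g * d * g⁻¹) (g * a * g⁻¹) := conj_comm h.ad.symm
      rwa [ga] at h3
    · have h3 : Commute (g * d * g⁻¹) (g * b * g⁻¹) := conj_comm h.bd.symm
      rwa [gb] at h3
    · have h3 : g * d * g⁻¹ ≠ g * a * g⁻¹ := conj_ne h.nad.symm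
      rwa [ga] at h3
    · have h3 : g * d * g⁻¹ ≠ g * b * g⁻¹ := conj_ne h.nbd.symm
      rwa [gb] at h3
  have Hc' : Nb a' b' c' := ⟨h'.hc, h'.ac.symm, h'.bc.symm, h'.nac.symm, h'.nbc.symm⟩
  have Hd' : Nb a' b' d' := ⟨h'.hd, h'.ad.symm, h'.bd.symm, h'.nad.symm, h'.nbd.symm⟩
  obtain ⟨y, hy1, hy2⟩ := Fi22Facts.trans_commuting _ (P.π_mem Hc) _ (P.π_mem Hd) _ (P.π_mem Hc') _ (P.π_mem Hd')
    (fun h1 => conj_ne h.ncd (P.x_eq Hc Hd h1)) (fun h1 => h'.ncd (P.x_eq Hc' Hd' h1))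
    ((P.comm_iff Hc Hd).2 (conj_comm h.cd)) ((P.comm_iff Hc' Hd').2 h'.cd)
  obtain ⟨n, rfl⟩ := P.lift.ext.surj y
  have h1 := conj_x P n Hc Hc' hy1
  have h2 := conj_x P n Hd Hd' hy2
  obtain ⟨h3, h4, h5⟩ := mem_Cab.1 n.2
  have h4' := mul_inv_eq_iff_eq_mul.2 h4
  have h5' := mul_inv_eq_iff_eq_mul.2 h5
  refine ⟨(n : Fi24) * g, mul_mem (mem_commutator_iff.2 h3) hg, ?_, ?_, ?_, ?_⟩
  · calc (n : Fi24) * g * a * ((n : Fi24) * g)⁻¹ = (n : Fi24) * (g * a * g⁻¹) * (n : Fi24)⁻¹ := by group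
      _ = (n : Fi24) * a' * (n : Fi24)⁻¹ := by rw [ga]
      _ = a' := h4'
  · calc (n : Fi24) * g * b * ((n : Fi24) * g)⁻¹ = (n : Fi24) * (g * b * g⁻¹) * (n : Fi24)⁻¹ := by group
      _ = (n : Fi24) * b' * (n : Fi24)⁻¹ := by rw [gb]
      _ = b' := h5'
  · rw [← h1]
    group
  · rw [← h2]
    group

end Cfsg.Agent.H827.Trans
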