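import Cfsg.Prelude.Def_MonsterType
import Cfsg.Agent.S1715
import Cfsg.Agent.H827.Pair
import Cfsg.Agent.SignalizersComponents.FStarPCore

/-!
# Groups of large Fischer type: the isomorphism with `Fi24'` (helper827)

`exists_equiv` : if `G` is of large Fischer type at `(z, Q)` then there is an isomorphism `e : G ≃* Fi24'` with
`e z = z0`, and `Q` is the preimage of `R0 = O₂(C(z0))`.
`pd_of_not_conj` : for an involution `t` not conjugate to `z`, `e t` is the product of two commuting transpositions;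
`PD Fi22 t N`.
-/

set_option autoImplicit false

namespace Cfsg.Agent.H827.Bridge

open Cfsg Cfsg.Spor Cfsg.Agent.R08 Cfsg.Agent.R08.FiTwentyFour Cfsg.Agent.CTwoTab.FiTF
open Cfsg.Agent.H827.PairAbs
open Subgroup

local notation "Pr" => Cfsg.Agent.R08.TetFi24A.At

variable {G : Type*} [Group G] [Finite G] {z : G}

/-- `F*(C(z))` for `e z = z0` -/
theorem fstar_z0 (e : G ≃* Spor.Fi24') (hz : e z = z0) :
    generalizedFittingSubgroup ↥(centralizer ({z} : Set G)) = pCore 2 ↥(centralizer ({z} : Set G)) ∧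
    (R0.comap e.toMonoidHom).subgroupOf (centralizer ({z} : Set G)) ≤ pCore 2 ↥(centralizer ({z} : Set G)) ∧
    Nat.card ↥((R0.comap e.toMonoidHom).subgroupOf (centralizer ({z} : Set G))) = 2 ^ 13 := by
  have hfact : Fact (Nat.Prime 2) := ⟨Nat.prime_two⟩
  have hcz : ∀ c : G, c ∈ centralizer ({z} : Set G) ↔ e c ∈ centralizer ({z0} : Set Spor.Fi24') := by
    intro c
    rw [mem_centralizer_singleton_iff, mem_centralizer_singleton_iff, ← hz, ← map_mul, ← map_mul]
    exact e.injective.eq_iff.symm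
  have hle : R0.comap e.toMonoidHom ≤ centralizer ({z} : Set G) := fun x hx => (hcz x).2 (R0_le hx)
  have hcard : Nat.card ↥((R0.comap e.toMonoidHom).subgroupOf (centralizer ({z} : Set G))) = 2 ^ 13 := by
    rw [Nat.card_congr (subgroupOfEquivOfLe hle).toEquiv, Nat.card_congr (comapEquiv e R0).toEquiv, R0_card]
  have hn : ((R0.comap e.toMonoidHom).subgroupOf (centralizer ({z} : Set G))).Normal := by
    constructor
    intro n hn c
    rw [mem_subgroupOf] at hn ⊢
    show e ((c : G) * (n : G) * (c : G)⁻¹) ∈ R0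
    rw [map_mul, map_mul, map_inv]
    exact R0_norm _ ((hcz c).1 c.2) _ hn
  have hp : IsPGroup 2 ↥((R0.comap e.toMonoidHom).subgroupOf (centralizer ({z} : Set G))) := IsPGroup.of_card hcard
  have hc : centralizer ((((R0.comap e.toMonoidHom).subgroupOf (centralizer ({z} : Set G))) :
      Subgroup ↥(centralizer ({z} : Set G))) : Set ↥(centralizer ({z} : Set G))) ≤
      (R0.comap e.toMonoidHom).subgroupOf (centralizer ({z} : Set G)) := by
    intro x hx
    rw [mem_subgroupOf]
    show e (x : G) ∈ R0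
    rcases R0_cent (e (x : G)) (fun r hr => by
      have h1 : e.symm r ∈ centralizer ({z} : Set G) := by
        rw [hcz, e.apply_symm_apply]
        exact R0_le hr
      have h2 := mem_centralizer_iff.1 hx ⟨e.symm r, h1⟩ (by
        show e (e.symm r) ∈ R0
        rw [e.apply_symm_apply]
        exact hr)
      have h3 : e (e.symm r * (x : G)) = e ((x : G) * e.symm r) := congrArg (fun y : ↥(centralizer ({z} : Set G)) => e (y : G)) h2
      rw [map_mul, map_mul, e.apply_symm_apply] at h3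
      exact h3.symm) with h | h
    · rw [h]; exact one_mem _
    · rw [h]; exact z0_mem
  exact ⟨SignalizersComponents.FStarPCore.generalizedFitting_eq_pCore_of_centralizer_le hn hp hc,
    Lib.Cores.le_pCore hn hp, hcard⟩

/-- a pair is not conjugate to `z0` -/
theorem not_pair {H : Type*} [Group H] [Finite H] (e : H ≃* Spor.Fi24') {t : H} {N : Subgroup H} (D : PD Fi22 t N) :
    e t ≠ z0 := by
  intro h
  have h1 := (fstar_z0 e h).1
  rw [D.fstar] at h1
  have h2 : IsPGroup 2 ↥(pCore 2 ↥(centralizer ({t} : Set H))) := (Lib.Cores.le_pCore_iff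
    (Lib.Cores.pCore_normal (G := ↥(centralizer ({t} : Set H))) 2)).1 le_rfl
  have hfact : Fact (Nat.Prime 2) := ⟨Nat.prime_two⟩
  rw [← h1] at h2
  have h3 := h2.isNilpotent
  exact SignalizersComponents.Components.quasisimple_not_isSolvable D.sub_qs inferInstance

/-- a pair is not conjugate to `z` -/
theorem not_isConj (e : G ≃* Spor.Fi24') (hz : e z = z0) {t : G} {N : Subgroup G} (D : PD Fi22 t N) :
    ¬ IsConj z t := by
  intro h
  obtain ⟨c, hc⟩ := isConj_iff.1 h
  refine not_pair ((MulAut.conj c⁻¹).trans e) D ?_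
  show e (c⁻¹ * t * c⁻¹⁻¹) = z0
  rw [← hz, ← hc]
  congr 1
  group

/-- a pair of transpositions is not conjugate to `z` -/
theorem not_isConj_pair (e : G ≃* Spor.Fi24') (hz : e z = z0) {t : G} {a b : Fi24} (ha : a ∈ L) (hb : b ∈ L)
    (hne : a ≠ b) (hab : Commute a b) (ht : ((e t : Spor.Fi24') : Fi24) = a * b) : ¬ IsConj z t := by
  obtain ⟨P⟩ := TetFi24A.exists_at ha hb hne hab
  exact not_isConj e hz ((Pair.pd P ht).comap e rfl)

variable {Q : Subgroup (Subgroup.centralizer ({z} : Set G))} [Q.Normal]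

/-- **The isomorphism** -/
theorem exists_equiv (hF : IsOfLargeFischerTypeAt z Q) : ∃ e : G ≃* Spor.Fi24', e z = z0 ∧
    ∀ x : ↥(centralizer ({z} : Set G)), x ∈ Q ↔ e x ∈ R0 := by
  obtain ⟨⟨h1, h2, h3, h4, h5⟩, N, M, hN, hM, hQN, hNM, hNc, ⟨K, i1, i2, hK, ⟨e⟩⟩, hMi⟩ := hF
  obtain ⟨e0⟩ := Cfsg.Agent.S1715.result z h1 Q N M h2 h3 h4 hQN hNM hNc K hK e hMi h5
  have ho : orderOf (e0 z) = 2 := by rw [MulEquiv.orderOf_eq, h1]
  have hQp : IsPGroup 2 ↥Q := IsPGroup.of_card h4
  rcases classes (e0 z) ho with ⟨a, b, P, h⟩ | ⟨g, hg⟩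
  · exfalso
    have D := (Pair.pd P h).comap e0 (t' := z) rfl
    have h6 := D.fstar
    rw [h2] at h6
    have hfact : Fact (Nat.Prime 2) := ⟨Nat.prime_two⟩
    rw [h6] at hQp
    have h7 := hQp.isNilpotent
    exact SignalizersComponents.Components.quasisimple_not_isSolvable D.sub_qs inferInstance
  · have hz : (e0.trans (MulAut.conj g⁻¹)) z = z0 := by
      show g⁻¹ * e0 z * g⁻¹⁻¹ = z0
      rw [hg]
      group
    refine ⟨e0.trans (MulAut.conj g⁻¹), hz, ?_⟩
    obtain ⟨h6, h7, h8⟩ := fstar_z0 (e0.trans (MulAut.conj g⁻¹)) hz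
    rw [h2] at h6
    rw [← h6] at h7
    have h9 := Subgroup.eq_of_le_of_card_ge h7 (by rw [h4, h8])
    intro x
    rw [← h9, mem_subgroupOf]
    rfl

omit [Finite G] in
/-- an involution not conjugate to `z0` is a pair -/
theorem pd_of_not_conj (e : G ≃* Spor.Fi24') (hz : e z = z0) {t : G} (ht : orderOf t = 2) (hn : ¬ IsConj z t) :
    ∃ a b : Fi24, ∃ _ : Pr a b, ((e t : Spor.Fi24') : Fi24) = a * b ∧
      PD Fi22 t ((N a b).comap e.toMonoidHom) := by
  have ho : orderOf (e t) = 2 := by rw [MulEquiv.orderOf_eq, ht]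
  rcases classes (e t) ho with ⟨a, b, P, h⟩ | ⟨g, hg⟩
  · exact ⟨a, b, P, h, (Pair.pd P h).comap e rfl⟩
  · exfalso
    apply hn
    rw [isConj_iff]
    refine ⟨e.symm g, ?_⟩
    apply e.injective
    rw [map_mul, map_mul, map_inv, e.apply_symm_apply, hz, hg]

end Cfsg.Agent.H827.Bridge
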