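import Cfsg.Agent.H827.CoreFour
import Cfsg.Agent.H918.Transv
import Cfsg.Agent.H76.PermFour
import Cfsg.Agent.H905.SLProper2

/-!
# The perfect group `Y = (4 ∘ 2^{1+4}).A₆` lies in no geometric subgroup of another type (dimension four)

`Dat R i Y` : `R` is an absolutely irreducible group `4 ∘ 2^{1+4}` in `GL(ι, F)`, `|ι| = 4`, and `Y` is the
perfect residual of its normaliser.
-/

set_option autoImplicit false
set_option linter.unusedSectionVars false

namespace Cfsg.Agent.H827.CF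

open Cfsg Cfsg.Geo Matrix Cfsg.Agent.ClassicalGeometry.SympBasic Cfsg.Agent.H920
open scoped commutatorElement

variable {ι : Type} [Fintype ι] [DecidableEq ι] {F : Type*} [Field F] {R : Subgroup (GL ι F)}

/-- The hypotheses on `R`. -/
structure Ty (R : Subgroup (GL ι F)) : Prop where
  st : IsSymplecticTypeGroup 2 R
  abs : ActsAbsolutelyIrreducibly (matrixSet R)
  card_center : Nat.card (Subgroup.center R) = 4
  card : Nat.card R = 64

theorem Ty.finite (h : Ty R) : Finite R := Nat.finite_of_card_ne_zero (by rw [h.card]; norm_num)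

theorem Ty.isType (h : Ty R) : IsType 2 2 R :=
  Or.inr ⟨rfl, h.card_center, by rw [h.card]; norm_num⟩

theorem Ty.card_ι [Nonempty ι] (h : Ty R) : Fintype.card ι = 4 := by
  have := h.finite
  exact card_of_type h.st h.abs h.isType

theorem Ty.exists_coord [Nonempty ι] (h : Ty R) : Nonempty (Coord R 2 2) := by
  have := h.finite
  exact H920.exists_coord h.abs (comm_of_type h.st h.abs h.isType) Nat.prime_two (by norm_num)
    (pow_of_type h.st h.abs h.isType) (card_of_type h.st h.abs h.isType)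

theorem Ty.comm [Nonempty ι] (h : Ty R) : ∀ x ∈ R, ∀ y ∈ R, x * y * x⁻¹ * y⁻¹ ∈ scalars ι F := by
  have := h.finite
  exact comm_of_type h.st h.abs h.isType

/-- The perfect residual of the normaliser exists and contains `R`. -/
theorem Ty.exists_core [Nonempty ι] [Finite F] (h : Ty R) :
    ∃ (C : Coord R 2 2) (Y : Subgroup (GL ι F)), Core4 C Y ∧ R ≤ Y := by
  have hfin := h.finite
  have h2p : Fact (Nat.Prime 2) := ⟨Nat.prime_two⟩
  obtain ⟨C⟩ := h.exists_coord
  have hfull : ∀ v, ∃ x : R, C.φ x = v ∧ x ^ 2 = 1 := by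
    intro v
    obtain ⟨x, rfl⟩ := C.surj v
    obtain ⟨z, hz, h'⟩ := full_of_type h.st h.abs h.isType x
    refine ⟨z * x, ?_, h'⟩
    rw [C.map_mul, (C.ker_iff z).2 (mem_scalars_of_mem_center h.abs hz), zero_add]
  have h' : Odd 2 ∨ (2 = 2 ∧ ∃ (z : R) (i : F), i ^ 2 = -1 ∧
      ((z : GL ι F) : Matrix ι ι F) = i • (1 : Matrix ι ι F)) := by
    obtain ⟨z, i, h1, h2, -⟩ := exists_i_of_type h.st h.abs h.card_center
    exact Or.inr ⟨rfl, z, i, h1, h2⟩
  obtain ⟨Y, hY⟩ := exists_core4 C (fun A => C.exists_ind (by norm_num) h' hfull A)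
  exact ⟨C, Y, hY, hY.le_of_four h.st h.abs h.card_center⟩

theorem absIrred_mono {R S : Subgroup (GL ι F)} (h : R ≤ S)
    (hR : ActsAbsolutelyIrreducibly (matrixSet R)) : ActsAbsolutelyIrreducibly (matrixSet S) := by
  refine ⟨fun W hW => hR.1 W ?_, fun M hM => hR.2 M ?_⟩
  · rintro _ ⟨g, hg, rfl⟩
    exact hW _ ⟨g, h hg, rfl⟩
  · rintro _ ⟨g, hg, rfl⟩
    exact hM _ ⟨g, h hg, rfl⟩

/-! ### Scalars -/

/-- A scalar with fourth power one lies in `R`. -/
theorem Ty.mem_of_pow [Nonempty ι] (h : Ty R) {c : GL ι F} (hc : c ∈ scalars ι F) (h4 : c ^ 4 = 1) : c ∈ R := by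
  have hfin := h.finite
  obtain ⟨z, i, hi, hz, hz2, hzc⟩ := exists_i_of_type h.st h.abs h.card_center
  obtain ⟨a, ha⟩ := (mem_scalars_iff _).1 hc
  have h1 : (a : F) ^ 4 = 1 := by
    have h2 : ((c ^ 4 : GL ι F) : Matrix ι ι F) = (a : F) ^ 4 • (1 : Matrix ι ι F) := by
      rw [Units.val_pow_eq_pow_val, ha, smul_pow, one_pow]
    rw [h4] at h2
    have h3 : (1 : F) • ((1 : GL ι F) : Matrix ι ι F) = (a : F) ^ 4 • ((1 : GL ι F) : Matrix ι ι F) := by
      rw [one_smul]; exact h2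
    exact (smul_gl_injective h3).symm
  have hpow : ∀ n : ℕ, ((((z : R) : GL ι F) ^ n : GL ι F) : Matrix ι ι F) = i ^ n • (1 : Matrix ι ι F) := by
    intro n
    rw [Units.val_pow_eq_pow_val, hz, smul_pow, one_pow]
  have key : ∀ n : ℕ, (a : F) = i ^ n → c ∈ R := by
    intro n hn
    have : c = ((z : R) : GL ι F) ^ n := Units.ext (by rw [ha, hpow, hn])
    rw [this]
    exact R.pow_mem z.2 n
  have h5 : ((a : F) - 1) * (((a : F) + 1) * (((a : F) - i) * ((a : F) + i))) = 0 := by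
    linear_combination h1 - ((a : F) ^ 2 - 1) * hi
  rcases mul_eq_zero.1 h5 with h6 | h6
  · exact key 0 (by rw [pow_zero]; exact sub_eq_zero.1 h6)
  rcases mul_eq_zero.1 h6 with h6 | h6
  · exact key 2 (by rw [hi]; exact eq_neg_of_add_eq_zero_left h6)
  rcases mul_eq_zero.1 h6 with h6 | h6
  · exact key 1 (by rw [pow_one]; exact sub_eq_zero.1 h6)
  · refine key 3 ?_
    have : i ^ 3 = -i := by rw [pow_succ, hi]; ring
    rw [this]
    exact eq_neg_of_add_eq_zero_left h6

theorem Ty.pow_four [Nonempty ι] (h : Ty R) {x : GL ι F} (hx : x ∈ R) : x ^ 4 = 1 := by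
  have hexp : Monoid.exponent R = 4 := by rw [h.st.exponent_eq]; norm_num
  have h4 : (⟨x, hx⟩ : R) ^ 4 = 1 := by rw [← hexp]; exact Monoid.pow_exponent_eq_one _
  exact congrArg Subtype.val h4

/-! ### Uniqueness of `R` -/

variable {C : Coord R 2 2} {Y : Subgroup (GL ι F)}

/-- If `Y` normalises another group `R'` of the same type then `R' = R`. -/
theorem Core4.unique [Finite F] [Nonempty ι] (hY : Core4 C Y) (hRY : R ≤ Y) (h : Ty R) {R' : Subgroup (GL ι F)}
    (h' : Ty R') (hle : Y ≤ subgroupNormalizer R') : R' = R := by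
  have h2p : Fact (Nat.Prime 2) := ⟨Nat.prime_two⟩
  have hfin : Finite (GL ι F) := inferInstance
  obtain ⟨C'⟩ := h'.exists_coord
  obtain ⟨f, hf⟩ : ∃ f : Y →* SpFourD.S, ∀ y : Y,
      C'.Ind (y : GL ι F) (f y : Matrix (Fin 2 ⊕ Fin 2) (Fin 2 ⊕ Fin 2) (ZMod 2)) :=
    ⟨CF.toSp C' hle, fun y => CF.toSp_ind C' hle y⟩
  -- the kernel is not scalar
  have hns : ¬ f.ker.map Y.subtype ≤ scalars ι F := by
    intro hsc
    have h1 : f.ker ≤ (scalars ι F).subgroupOf Y := by
      intro y hy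
      exact Subgroup.mem_subgroupOf.2 (hsc ⟨y, hy, rfl⟩)
    have h2 := hY.dvd_card hRY h.abs h.card_ι h.comm
    have h3 : ((scalars ι F).subgroupOf Y).index ∣ f.ker.index := Subgroup.index_dvd_of_le h1
    have h4 : f.ker.index = Nat.card f.range := Subgroup.index_ker f
    have h5 : Nat.card f.range ∣ 720 := by
      rw [← SpFourD.card_S]
      exact Subgroup.card_subgroup_dvd_card _
    have h6 : 5760 ∣ 720 := by
      refine (h2.trans ?_).trans h5
      rw [← h4]
      exact h3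
    norm_num at h6
  have hK : ∀ y ∈ Y, ∀ x ∈ f.ker.map Y.subtype, y * x * y⁻¹ ∈ f.ker.map Y.subtype :=
    conj_mem_map f.normal_ker
  have hKN : f.ker.map Y.subtype ≤ subgroupNormalizer R := by
    intro x hx
    obtain ⟨x', -, hx'⟩ := Subgroup.mem_map.1 hx
    rw [← hx']
    exact hY.le x'.2
  have hsub : R ≤ R' := by
    intro x hx
    obtain ⟨k, ⟨y, hy, rfl⟩, hk⟩ := hY.le_of_normalized h.abs hKN hK hns ⟨x, hx⟩
    have h1 : C'.Ind (y : GL ι F) 1 := by
      have := hf y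
      have h2 : f y = 1 := hy
      rw [h2] at this
      exact this
    obtain ⟨x', hx'⟩ := C'.mem_of_ind_one h'.abs h1
    have h2 : (x' : GL ι F)⁻¹ * x ∈ scalars ι F := by
      have h3 := Subgroup.mul_mem _ hx' (Subgroup.inv_mem _ hk)
      have h4 : (x' : GL ι F)⁻¹ * y * (x⁻¹ * y)⁻¹ = (x' : GL ι F)⁻¹ * x := by group
      rw [← h4]
      exact h3
    have h3 : (x' : GL ι F)⁻¹ * x ∈ R' := by
      apply h'.mem_of_pow h2
      have hcm : Commute ((x' : GL ι F)⁻¹ * x) (x' : GL ι F) := scalars_comm h2 _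
      have h4 : (x' : GL ι F) * ((x' : GL ι F)⁻¹ * x) = x := by group
      have h5 : x ^ 4 = (x' : GL ι F) ^ 4 * ((x' : GL ι F)⁻¹ * x) ^ 4 := by
        rw [← hcm.symm.mul_pow, h4]
      rw [h.pow_four hx, h'.pow_four x'.2, one_mul] at h5
      exact h5.symm
    have h4 : (x' : GL ι F) * ((x' : GL ι F)⁻¹ * x) = x := by group
    rw [← h4]
    exact R'.mul_mem x'.2 h3
  have : Finite R' := h'.finite
  exact (Subgroup.eq_of_le_of_card_ge hsub (by rw [h.card, h'.card])).symm

/-! ### Decompositions -/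

theorem decomp_injective {t m : ℕ} {D : Fin t → Submodule F (ι → F)} (hD : IsMDecomposition m D) :
    Function.Injective D := by
  apply hD.indep.injective
  intro i h
  have h1 := hD.finrank_eq i
  rw [h, finrank_bot] at h1
  exact hD.pos.ne h1

/-- A perfect irreducible group preserves no decomposition into at most four subspaces. -/
theorem not_le_decomp {Y : Subgroup (GL ι F)} (hYY : ⁅Y, Y⁆ = Y) (hirr : ActsIrreducibly (matrixSet Y))
    {t m : ℕ} (ht : t ≤ 4) {D : Fin t → Submodule F (ι → F)} (hD : IsMDecomposition m D) :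
    ¬ Y ≤ decompositionStabilizer D := by
  intro hle
  have hinj := decomp_injective hD
  choose f hf using fun g : Y => hle g.2
  let ψ : Y →* Equiv.Perm (Fin t) := MonoidHom.mk' f (by
    intro g h
    ext i
    have h1 := hf (g * h) i
    have h2 : (D i).map (Matrix.toLin' (((g * h : Y) : GL ι F) : Matrix ι ι F)) =
        D (f g (f h i)) := by
      rw [Subgroup.coe_mul, Units.val_mul, Matrix.toLin'_mul, Submodule.map_comp, hf, hf]
    rw [h2] at h1
    rw [← hinj h1]
    rfl)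
  have hP : Group.IsPerfect Y := Subgroup.isPerfect_iff.2 hYY
  have hψ : ∀ y : Y, f y = 1 := fun y => H76.PermFour.perfect_hom_eq_one hP
    (H76.PermFour.solvable_perm_of_card_le (by simpa using ht)) ψ y
  let i₀ : Fin t := ⟨0, by have := hD.two_le; omega⟩
  let i₁ : Fin t := ⟨1, by have := hD.two_le; omega⟩
  have hne : i₀ ≠ i₁ := by
    intro h
    have := congrArg Fin.val h
    simp [i₀, i₁] at this
  have hbot : ∀ i, D i ≠ ⊥ := by
    intro i h
    have h1 := hD.finrank_eq i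
    rw [h, finrank_bot] at h1
    exact hD.pos.ne h1
  rcases hirr (D i₀) (by
    rintro _ ⟨g, hg, rfl⟩
    have h1 := hf ⟨g, hg⟩ i₀
    rw [hψ] at h1
    exact h1.le) with h1 | h1
  · exact hbot i₀ h1
  · have hdis := hD.indep.pairwiseDisjoint hne
    rw [Function.onFun, h1, top_disjoint] at hdis
    exact hbot i₁ hdis

/-! ### Forms -/

/-- A perfect group of similarities consists of isometries. -/
theorem fixes_of_perfect {Y : Subgroup (GL ι F)} (hYY : ⁅Y, Y⁆ = Y) {f : (ι → F) → (ι → F) → F}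
    (hf : ∃ u v, f u v ≠ 0) (hle : Y ≤ similarityGroup f) {y : GL ι F} (hy : y ∈ Y) (u v : ι → F) :
    f ((y : Matrix ι ι F) *ᵥ u) ((y : Matrix ι ι F) *ᵥ v) = f u v := by
  obtain ⟨u₀, v₀, h0⟩ := hf
  choose c hc using fun g : Y => hle g.2
  let ψ : Y →* Fˣ := MonoidHom.mk' c (by
    intro g h
    have h1 := hc (g * h) u₀ v₀
    rw [Subgroup.coe_mul, Units.val_mul, ← Matrix.mulVec_mulVec, ← Matrix.mulVec_mulVec, hc, hc, ← mul_assoc] at h1
    have h2 := mul_right_cancel₀ h0 h1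
    exact Units.ext h2.symm)
  have hψ : c ⟨y, hy⟩ = 1 := perfect_map_eq_one hYY ψ ⟨y, hy⟩
  have := hc ⟨y, hy⟩ u v
  rw [hψ, Units.val_one, one_mul] at this
  exact this

theorem quad_fixes_of_perfect {Y : Subgroup (GL ι F)} (hYY : ⁅Y, Y⁆ = Y) {Q : (ι → F) → F}
    (hQ : ∃ u, Q u ≠ 0) (hle : Y ≤ quadSimilarityGroup Q) {y : GL ι F} (hy : y ∈ Y) (u : ι → F) :
    Q ((y : Matrix ι ι F) *ᵥ u) = Q u := by
  obtain ⟨u₀, h0⟩ := hQ
  choose c hc using fun g : Y => hle g.2
  let ψ : Y →* Fˣ := MonoidHom.mk' c (by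
    intro g h
    have h1 := hc (g * h) u₀
    rw [Subgroup.coe_mul, Units.val_mul, ← Matrix.mulVec_mulVec, hc, hc, ← mul_assoc] at h1
    have h2 := mul_right_cancel₀ h0 h1
    exact Units.ext h2.symm)
  have hψ : c ⟨y, hy⟩ = 1 := perfect_map_eq_one hYY ψ ⟨y, hy⟩
  have := hc ⟨y, hy⟩ u
  rw [hψ, Units.val_one, one_mul] at this
  exact this

theorem exists_ne_of_nondeg [Nonempty ι] {f : (ι → F) → (ι → F) → F} (hf : IsNondegenerateForm f) :
    ∃ u v, f u v ≠ 0 := by
  obtain ⟨i⟩ := (inferInstance : Nonempty ι)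
  obtain ⟨x, hx⟩ := (hf (Pi.single i 1) (by
    intro h
    have := congrFun h i
    simp at this)).1
  exact ⟨x, _, hx⟩

theorem two_ne_zero_of_i {R : Subgroup (GL ι F)} [Nonempty ι] (h : Ty R) : (2 : F) ≠ 0 := by
  have hfin := h.finite
  obtain ⟨C⟩ := h.exists_coord
  have h2p : Fact (Nat.Prime 2) := ⟨Nat.prime_two⟩
  exact_mod_cast C.natCast_ne_zero

/-- `Y` preserves no bilinear form up to scalars. -/
theorem not_le_similarity [Nonempty ι] {Y : Subgroup (GL ι F)} (h : Ty R) (hYY : ⁅Y, Y⁆ = Y) (hRY : R ≤ Y)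
    {f : (ι → F) → (ι → F) → F} (hb : IsBilinearForm f) (hf : IsNondegenerateForm f) :
    ¬ Y ≤ similarityGroup f := by
  intro hle
  have hfin := h.finite
  have h2 : (2 : F) ≠ 0 := two_ne_zero_of_i h
  obtain ⟨z, i, hi, hz, -⟩ := exists_i_of_type h.st h.abs h.card_center
  obtain ⟨u, v, huv⟩ := exists_ne_of_nondeg hf
  have h1 := fixes_of_perfect hYY ⟨u, v, huv⟩ hle (hRY z.2) u v
  rw [hz, Matrix.smul_mulVec, Matrix.smul_mulVec, Matrix.one_mulVec, Matrix.one_mulVec, hb.smul_left,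
    hb.smul_right] at h1
  apply huv
  have h3 : (2 : F) * f u v = 0 := by linear_combination f u v * hi - h1
  exact (mul_eq_zero.1 h3).resolve_left h2

/-- `Y` preserves no quadratic form up to scalars. -/
theorem not_le_quadSimilarity [Nonempty ι] {Y : Subgroup (GL ι F)} (h : Ty R) (hYY : ⁅Y, Y⁆ = Y) (hRY : R ≤ Y)
    {Q : (ι → F) → F} (hQ : IsNondegenerateQuadraticForm Q) : ¬ Y ≤ quadSimilarityGroup Q := by
  intro hle
  have hfin := h.finite
  have h2 : (2 : F) ≠ 0 := two_ne_zero_of_i h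
  obtain ⟨z, i, hi, hz, -⟩ := exists_i_of_type h.st h.abs h.card_center
  obtain ⟨u, hu⟩ : ∃ u, Q u ≠ 0 := by
    by_contra hcon
    push Not at hcon
    obtain ⟨u, v, huv⟩ := exists_ne_of_nondeg hQ.nondegenerate
    apply huv
    rw [QuadraticMap.polar, hcon, hcon, hcon, sub_zero, sub_zero]
  have h1 := quad_fixes_of_perfect hYY ⟨u, hu⟩ hle (hRY z.2) u
  rw [hz, Matrix.smul_mulVec, Matrix.one_mulVec, hQ.smul, hi] at h1
  apply hu
  have h3 : (2 : F) * Q u = 0 := by linear_combination -h1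
  exact (mul_eq_zero.1 h3).resolve_left h2

end Cfsg.Agent.H827.CF
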