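import Cfsg.Agent.H912.FiveList
import Cfsg.Agent.H912.LSUse
import Cfsg.Agent.H203.LSE6
import Cfsg.Agent.H203.LSE7
import Cfsg.Agent.H203.LSE8
import Cfsg.Agent.H203.LSF4even
import Cfsg.Agent.H203.LSF4odd
import Cfsg.Agent.H203.LSG2
import Cfsg.Agent.H203.LSSz
import Cfsg.Agent.H203.LSTwD4
import Cfsg.Agent.H203.LSTwE6
import Cfsg.Agent.H203.LSTwF4

/-!
# Exceptional groups of Lie type have no projective representation of degree at most five in cross characteristic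

`exc_ls`: `ExcL r T` ⟹ `T ≃* G₂(4)`, or `T ≃* F₄(2)`, or `LS r 6 T` (arbitrary central kernels).
-/

set_option autoImplicit false

universe u v w

namespace Cfsg.Agent.H827.FourList

open Cfsg Cfsg.Agent.H912.Bd Cfsg.Agent.H912.Five Cfsg.Agent.H203.LS


theorem exc_ls {r : ℕ} (hr : r.Prime) {T : Type v} [Group T] (h : ExcL r T) :
    (r = 2 ∧ Cfsg.Agent.H912.Bd.IsG2 4 T) ∨ (r = 2 ∧ Cfsg.Agent.H912.Bd.IsF4 2 T) ∨ LS.{v, u, w} r 6 T := by
  have : Fact r.Prime := ⟨hr⟩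
  rcases h with h | h | ⟨rfl, h⟩ | ⟨rfl, h⟩ | ⟨rfl, h⟩
  · obtain ⟨K, iK, iF, hch, h⟩ := h
    have hd : r ∣ Fintype.card K := char_dvd_card K
    have hq : 2 ≤ Nat.card K := Finite.one_lt_card
    have hN : Nat.card K = Fintype.card K := Nat.card_eq_fintype_card
    have hbig : ∀ k, 3 ≤ k → 6 ≤ (Nat.card K - 1) * Nat.card K ^ k := by
      intro k hk
      have h1 : 2 ^ 3 ≤ Nat.card K ^ k := (Nat.pow_le_pow_left hq 3).trans (Nat.pow_le_pow_right (by omega) hk)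
      have := Nat.mul_le_mul (show 1 ≤ Nat.card K - 1 by omega) h1
      omega
    rcases h with ⟨h3, ⟨e⟩⟩ | ⟨⟨e⟩⟩ | ⟨⟨e⟩⟩ | ⟨⟨e⟩⟩ | ⟨⟨e⟩⟩
    · by_cases h4 : Fintype.card K = 4
      · left
        exact ⟨eq_of_dvd_prime_pow hr Nat.prime_two (k := 2) (by rw [h4] at hd; exact hd), K, iK, iF, h4, ⟨e⟩⟩
      · right; right
        refine LS.mono (LS.congr e.symm (G2.ls (r := r) K (by omega) (by omega))) ?_
        have := Nat.mul_le_mul (show 2 ≤ Nat.card K - 1 by omega) (show 3 ≤ Nat.card K by omega)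
        omega
    · by_cases h2 : Fintype.card K = 2
      · right; left
        exact ⟨eq_of_dvd_prime_pow hr Nat.prime_two (k := 1) (by rw [h2] at hd; exact hd), K, iK, iF, h2, ⟨e⟩⟩
      · right; right
        by_cases h20 : (2 : K) = 0
        · exact LS.mono (LS.congr e.symm (F4even.ls_even (r := r) K h20 (by omega))) (hbig 4 (by norm_num))
        · exact LS.mono (LS.congr e.symm (F4odd.ls_odd (r := r) K h20)) (hbig 4 (by norm_num))
    · exact Or.inr (Or.inr (LS.mono (LS.congr e.symm (E6.ls (r := r) K)) (hbig 10 (by norm_num))))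
    · exact Or.inr (Or.inr (LS.mono (LS.congr e.symm (E7.ls (r := r) K)) (hbig 16 (by norm_num))))
    · exact Or.inr (Or.inr (LS.mono (LS.congr e.symm (E8.ls (r := r) K)) (hbig 28 (by norm_num))))
  · right; right
    obtain ⟨K, iK, iF, hch, q, hq, h⟩ := h
    have hq2 : 2 ≤ q := hq.two_le
    have hbig : ∀ k, 3 ≤ k → 6 ≤ (q - 1) * q ^ k := by
      intro k hk
      have h1 : 2 ^ 3 ≤ q ^ k := (Nat.pow_le_pow_left hq2 3).trans (Nat.pow_le_pow_right (by omega) hk)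
      have := Nat.mul_le_mul (show 1 ≤ q - 1 by omega) h1
      omega
    rcases h with ⟨hK, ⟨e⟩⟩ | ⟨hK, ⟨e⟩⟩
    · exact LS.mono (LS.congr e.symm (TwE6.ls (r := r) hq hK)) (hbig 6 (by norm_num))
    · exact LS.mono (LS.congr e.symm (TwD4.ls (r := r) hq hK)) (hbig 4 (by norm_num))
  · right; right
    obtain ⟨K, iK, iF, m, hm, hK, ⟨e⟩⟩ := h
    refine LS.mono (LS.congr e.symm (LS.sz hm hK)) ?_
    have h1 : 2 ^ 3 ≤ 2 ^ (2 * m + 1) := Nat.pow_le_pow_right (by norm_num) (by omega)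
    rw [Nat.card_eq_fintype_card, hK]
    omega
  · right; right
    obtain ⟨K, iK, iF, m, hm, hK, ⟨e⟩⟩ := h
    refine LS.mono (LS.congr e.symm (TwF4.ls hm hK)) ?_
    have h1 : 2 ^ 3 ≤ 2 ^ (2 * m + 1) := Nat.pow_le_pow_right (by norm_num) (by omega)
    have hc : 2 ^ 3 ≤ Nat.card K := by rw [Nat.card_eq_fintype_card, hK]; exact h1
    have h2 : 8 ^ 2 ≤ Nat.card K ^ 2 := Nat.pow_le_pow_left (by omega) 2
    have := Nat.mul_le_mul (show 1 ≤ Nat.card K - 1 by omega) h2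
    omega
  · right; right
    obtain ⟨K, iK, iF, m, hm, hK, ⟨e⟩⟩ := h
    refine LS.mono (LS.congr e.symm (LS.ree hm hK)) ?_
    have h1 : 3 ^ 3 ≤ 3 ^ (2 * m + 1) := Nat.pow_le_pow_right (by norm_num) (by omega)
    rw [Nat.card_eq_fintype_card, hK]
    omega

end Cfsg.Agent.H827.FourList
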