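import Cfsg.Agent.H827.ExcSix
import Cfsg.Agent.S0256

/-!
# The simple groups with a projective representation of degree `4`

`four_list`: `P ≤ GL_4(F)` perfect, `P` modulo scalars a known nonabelian simple group `T`: then `T` is in the list
`Small4 p`, or of Lie type in characteristic `p`, or in the list `Rest4 p`
(groups with an exceptional multiplier, Tits, sporadic: to be excluded by other means).
-/

set_option autoImplicit false
set_option linter.unusedSectionVars false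

universe u v w

namespace Cfsg.Agent.H827.FourList

open Cfsg Cfsg.Agent.H912 Cfsg.Agent.H912.Bd Cfsg.Agent.H912.Five Cfsg.Agent.H203.LS

/-- The groups occurring in degree `4`. -/
def Small4 (p : ℕ) (T : Type v) [Group T] : Prop :=
  Nonempty (T ≃* alternatingGroup (Fin 5)) ∨ Nonempty (T ≃* alternatingGroup (Fin 6)) ∨
  Nonempty (T ≃* alternatingGroup (Fin 7)) ∨
  (p ≠ 2 ∧ p ≠ 7 ∧ Nonempty (T ≃* Matrix.ProjectiveSpecialLinearGroup (Fin 2) (ZMod 7))) ∨
  (5 ≤ p ∧ IsU42 T) ∨ (p = 3 ∧ IsL 3 4 T)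

/-- The candidates to be excluded by other means. -/
def Rest4 (p : ℕ) (T : Type v) [Group T] : Prop :=
  (p ≠ 2 ∧ ((∃ m, 8 ≤ m ∧ Nonempty (T ≃* alternatingGroup (Fin m))) ∨ (5 ≤ p ∧ IsL 3 4 T) ∨ IsU 6 2 T ∨
    IsS 3 2 T ∨ IsOP 4 2 T ∨ Bd.IsG2 4 T ∨ Bd.IsF4 2 T)) ∨ Lie.IsoTits T ∨ IsSporadicGroup T

/-- the conclusion of the list -/
def Res4 (p : ℕ) (T : Type v) [Group T] : Prop := Small4 p T ∨ IsLieTypeChar p T ∨ Rest4 p T

section
variable {p : ℕ} [hp : Fact p.Prime] {T : Type v} [Group T]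

theorem res_a5 (h : Nonempty (T ≃* alternatingGroup (Fin 5))) : Res4 p T := Or.inl (Or.inl h)
theorem res_a6 (h : Nonempty (T ≃* alternatingGroup (Fin 6))) : Res4 p T := Or.inl (Or.inr (Or.inl h))
theorem res_a7 (h : Nonempty (T ≃* alternatingGroup (Fin 7))) : Res4 p T := Or.inl (Or.inr (Or.inr (Or.inl h)))

theorem exists_two : ∃ (L : Type) (_ : Field L) (_ : Fintype L), CharP L 2 ∧ Fintype.card L = 2 :=
  ⟨ZMod 2, inferInstance, inferInstance, inferInstance, by simp⟩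

theorem exists_four : ∃ (L : Type) (_ : Field L) (_ : Fintype L) (_ : CharP L 2), Fintype.card L = 4 := by
  have : Fintype (GaloisField 2 2) := Fintype.ofFinite _
  refine ⟨GaloisField 2 2, inferInstance, this, inferInstance, ?_⟩
  rw [← Nat.card_eq_fintype_card, GaloisField.card 2 2 (by norm_num)]
  norm_num

/-- `PSL_2(7)` -/
theorem res_l27 (h : IsL 2 7 T) : Res4 p T := by
  have e7 := psl_zmod (by norm_num) h
  by_cases h2 : p = 2
  · obtain ⟨L, iL, iF, hch, hc⟩ := exists_two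
    obtain ⟨K, _, _, hK, ⟨e⟩⟩ := h
    obtain ⟨e'⟩ := S0255.result (F := K) (K := L) hK hc
    subst h2
    exact Or.inr (Or.inl (Or.inl ⟨L, iL, iF, hch, 3, by norm_num, fun h => by omega, ⟨e.trans e'⟩⟩))
  · by_cases h7 : p = 7
    · subst h7
      obtain ⟨e'⟩ := e7
      exact Or.inr (Or.inl (Or.inl ⟨ZMod 7, inferInstance, inferInstance, inferInstance, 2, le_refl _,
        fun _ => by simp, ⟨e'⟩⟩))
    · exact Or.inl (Or.inr (Or.inr (Or.inr (Or.inl ⟨h2, h7, e7⟩))))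

/-- `PSL_3(2)` -/
theorem res_l32 (h : IsL 3 2 T) : Res4 p T := by
  obtain ⟨K, iF, iT, hK, ⟨e⟩⟩ := h
  have : Fact (Nat.Prime 7) := ⟨by norm_num⟩
  obtain ⟨e'⟩ := S0255.result (F := ZMod 7) (K := K) (by simp) hK
  exact res_l27 ⟨ZMod 7, inferInstance, inferInstance, by simp, ⟨e.trans e'.symm⟩⟩

/-- `PSU_4(2)` -/
theorem res_u42 (h : IsU 4 2 T) : Res4 p T := by
  by_cases h2 : p = 2
  · right; left
    subst h2
    obtain ⟨K, iF, iT, hK, e⟩ := h
    have hch : CharP K 2 := by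
      obtain ⟨q, hq⟩ := CharP.exists K
      have hqp : Fact q.Prime := ⟨CharP.char_is_prime K q⟩
      have h1 : q ∣ Fintype.card K := char_dvd_card K
      rw [hK] at h1
      have := eq_of_dvd_prime_pow hqp.out Nat.prime_two (k := 2) (by simpa using h1)
      rwa [← this]
    exact Or.inr (Or.inr (Or.inl ⟨K, iF, iT, hch, 4, 2, hK, by norm_num, by norm_num, e⟩))
  · by_cases h3 : p = 3
    · right; left
      subst h3
      obtain ⟨K, iF, iT, hK, ⟨e⟩⟩ := h
      obtain ⟨e'⟩ := S0822.result (F := K) (K := ZMod 3) (by rw [hK]; norm_num) (by simp)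
      exact Or.inr (Or.inl ⟨ZMod 3, inferInstance, inferInstance, inferInstance, 2, le_refl _, fun _ => by simp,
        ⟨e.trans e'⟩⟩)
    · obtain ⟨K, iF, iT, hK, e⟩ := h
      have h5 : 5 ≤ p := by
        have h1 := hp.out.two_le
        by_contra hcon
        have h4 : p = 4 := by omega
        have := hp.out
        rw [h4] at this
        exact absurd this (by norm_num)
      exact Or.inl (Or.inr (Or.inr (Or.inr (Or.inr (Or.inl ⟨h5, K, iF, iT, by rw [hK]; norm_num, e⟩)))))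

/-- `PSp_4(3)` -/
theorem res_s43 (h : IsS 2 3 T) : Res4 p T := by
  obtain ⟨K, iF, iT, hK, ⟨e⟩⟩ := h
  obtain ⟨L, iL, iLf, hLch, hG⟩ := exists_four
  obtain ⟨e'⟩ := S0822.result (F := L) (K := K) hG hK
  exact res_u42 ⟨L, iL, iLf, by rw [hG]; norm_num, ⟨e.trans e'.symm⟩⟩

/-- `PSL_2(4)` -/
theorem res_l24 (h : IsL 2 4 T) : Res4 p T := by
  obtain ⟨K, iF, iT, hK, ⟨e⟩⟩ := h
  obtain ⟨e'⟩ := S0252.result hK
  exact res_a5 ⟨e.trans e'⟩

/-- the classical groups with a representation of degree four whose kernel has order prime to the characteristic -/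
theorem res_of_cl {F : Type u} [Field F] {r : ℕ} (hr : r.Prime) (hrF : (r : F) ≠ 0)
    (hc : Cfsg.IsPSLChar r T ∨ Cfsg.IsPSpChar r T ∨ Cfsg.IsPSUChar r T ∨ Cfsg.IsPOmegaOddChar r T ∨
      Cfsg.IsPOmegaPlusChar r T ∨ Cfsg.IsPOmegaMinusChar r T)
    (h : PR F 4 r T) : Res4 p T := by
  have h1 := cross_classical hr hrF h (by norm_num) hc
  unfold ClSmall at h1
  rcases h1 with ⟨q, hq4, hq, h⟩ | ⟨_, h⟩ | ⟨h8, _⟩ | ⟨h8, _⟩ | ⟨h8, _⟩ | ⟨h8, _⟩ | ⟨_, h⟩ | ⟨h8, _⟩ | ⟨_, h⟩ |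
    ⟨h8, _⟩ | ⟨h8, _⟩ | ⟨h8, _⟩
  · have hq11 : q ≤ 10 := by
      by_contra hcon
      have h1 : Nat.gcd 2 (q - 1) ≤ 2 := Nat.le_of_dvd (by norm_num) (Nat.gcd_dvd_left _ _)
      have h0 : 0 < Nat.gcd 2 (q - 1) := Nat.gcd_pos_of_pos_left _ (by norm_num)
      have h2 : (q - 1) / 2 ≤ (q - 1) / Nat.gcd 2 (q - 1) := Nat.div_le_div_left h1 h0
      have h4 : (q - 1) / 2 ≤ 4 := h2.trans hq
      omega
    obtain ⟨K, iF, iT, hK, ⟨e⟩⟩ := h
    have hpp : IsPrimePow (Fintype.card K) := FiniteField.isPrimePow_card K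
    rw [hK] at hpp
    interval_cases q
    · exact res_l24 ⟨K, iF, iT, hK, ⟨e⟩⟩
    · obtain ⟨e'⟩ := S0253.result hK
      exact res_a5 ⟨e.trans e'⟩
    · exfalso
      revert hpp
      rw [isPrimePow_nat_iff_bounded]
      decide
    · exact res_l27 ⟨K, iF, iT, hK, ⟨e⟩⟩
    · exfalso
      revert hq
      decide
    · obtain ⟨e'⟩ := S0254.result hK
      exact res_a6 ⟨e.trans e'⟩
    · exfalso
      revert hpp
      rw [isPrimePow_nat_iff_bounded]
      decide
  · exact res_l32 h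
  · omega
  · omega
  · omega
  · omega
  · exact res_u42 h
  · omega
  · exact res_s43 h
  · omega
  · omega
  · omega

variable {F : Type u} [Field F] [Finite F] [CharP F p]
  (P : Subgroup (Matrix.GeneralLinearGroup (Fin 4) F)) (hP : ⁅P, P⁆ = P)
  (e : (P ⧸ (Cfsg.Geo.scalars (Fin 4) F).subgroupOf P) ≃* T)

include hP e

/-- The alternating groups in degree `4`. -/
theorem res_of_alt (h : IsAlternating T) : Res4 p T := by
  obtain ⟨m, hm, ⟨e'⟩⟩ := h
  by_cases h2 : p = 2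
  · have h8 : m ≤ 8 := by
      by_contra hcon
      have h3F : ((3 : ℕ) : F) ≠ 0 := by
        intro h0
        have := (Nat.prime_dvd_prime_iff_eq hp.out Nat.prime_three).1 ((CharP.cast_eq_zero_iff F p 3).1 h0)
        omega
      have h1 := bd_alt_three (F := F) (by exact_mod_cast h3F) (n := m) (by omega) 4
        (PR.of_perfect P hP Nat.prime_three (by norm_num) (e.trans e'))
      omega
    interval_cases m
    · exact res_a5 ⟨e'⟩
    · exact res_a6 ⟨e'⟩
    · exact res_a7 ⟨e'⟩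
    · obtain ⟨L, iL, iF, hch, hc⟩ := exists_two
      obtain ⟨e''⟩ := S0256.result (F := L) hc
      subst h2
      exact Or.inr (Or.inl (Or.inl ⟨L, iL, iF, hch, 4, by norm_num, fun h => by omega, ⟨e'.trans e''.symm⟩⟩))
  · by_cases h8 : m < 8
    · interval_cases m
      · exact res_a5 ⟨e'⟩
      · exact res_a6 ⟨e'⟩
      · exact res_a7 ⟨e'⟩
    · exact Or.inr (Or.inr (Or.inl ⟨h2, Or.inl ⟨m, by omega, ⟨e'⟩⟩⟩))

theorem res_of_exc (hT : ¬ IsMulCommutative T) {r : ℕ} (hr : r.Prime) (hrp : r ≠ p) (h : ExcL r T) : Res4 p T := by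
  have hrF : (r : F) ≠ 0 := by
    intro h0
    exact hrp ((Nat.prime_dvd_prime_iff_eq hp.out hr).1 ((CharP.cast_eq_zero_iff F p r).1 h0)).symm
  rcases exc_ls.{u, v, u} hr h with ⟨rfl, h1⟩ | ⟨rfl, h1⟩ | h1
  · exact Or.inr (Or.inr (Or.inl ⟨hrp.symm, Or.inr (Or.inr (Or.inr (Or.inr (Or.inr (Or.inl h1)))))⟩))
  · exact Or.inr (Or.inr (Or.inl ⟨hrp.symm, Or.inr (Or.inr (Or.inr (Or.inr (Or.inr (Or.inr h1)))))⟩))
  · exfalso
    have : Nontrivial T := by
      by_contra hcon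
      rw [not_nontrivial_iff_subsingleton] at hcon
      exact hT ⟨⟨fun a b => Subsingleton.elim _ _⟩⟩
    have := le_of_ls h1 hrF P hP e
    omega

theorem res_of_excMult (hT : ¬ IsMulCommutative T) (h2 : p ≠ 2) (h : ExcMult 2 T) : Res4 p T := by
  have hp5 : p ≠ 3 → 5 ≤ p := by
    intro h3
    have h1 := hp.out.two_le
    by_contra hcon
    have h4 : p = 4 := by omega
    have := hp.out
    rw [h4] at this
    exact absurd this (by norm_num)
  rcases h with ⟨-, h⟩ | ⟨h, -⟩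
  · rcases h with h | h | h | h | h | h | h | h | h | h | h | h
    · exact res_l24 h
    · exact res_l32 h
    · by_cases h3 : p = 3
      · exact Or.inl (Or.inr (Or.inr (Or.inr (Or.inr (Or.inr ⟨h3, h⟩)))))
      · exact Or.inr (Or.inr (Or.inl ⟨h2, Or.inr (Or.inl ⟨hp5 h3, h⟩)⟩))
    · obtain ⟨K, iK, iF, hK, ⟨e'⟩⟩ := h
      obtain ⟨e''⟩ := S0256.result (F := K) hK
      exact Or.inr (Or.inr (Or.inl ⟨h2, Or.inl ⟨8, le_refl _, ⟨e'.trans e''⟩⟩⟩))
    · exact res_u42 h
    · exact Or.inr (Or.inr (Or.inl ⟨h2, Or.inr (Or.inr (Or.inl h))⟩))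
    · exact Or.inr (Or.inr (Or.inl ⟨h2, Or.inr (Or.inr (Or.inr (Or.inl h)))⟩))
    · exact Or.inr (Or.inr (Or.inl ⟨h2, Or.inr (Or.inr (Or.inr (Or.inr (Or.inl h))))⟩))
    · exact Or.inr (Or.inr (Or.inl ⟨h2, Or.inr (Or.inr (Or.inr (Or.inr (Or.inr (Or.inl h)))))⟩))
    · exact Or.inr (Or.inr (Or.inl ⟨h2, Or.inr (Or.inr (Or.inr (Or.inr (Or.inr (Or.inr h)))))⟩))
    · obtain ⟨K, iK, iF, hK, e'⟩ := h
      have hch : CharP K 2 := by
        obtain ⟨q, hq⟩ := CharP.exists K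
        have hqp : Fact q.Prime := ⟨CharP.char_is_prime K q⟩
        have h1 : q ∣ Fintype.card K := char_dvd_card K
        rw [hK] at h1
        have := eq_of_dvd_prime_pow hqp.out Nat.prime_two (k := 2) (by simpa using h1)
        rwa [← this]
      exact res_of_exc P hP e hT Nat.prime_two h2.symm
        (Or.inr (Or.inl ⟨K, iK, iF, hch, 2, Nat.prime_two.isPrimePow, Or.inl ⟨hK, e'⟩⟩))
    · obtain ⟨K, iK, iF, hK, e'⟩ := h
      exact res_of_exc P hP e hT Nat.prime_two h2.symm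
        (Or.inr (Or.inr (Or.inl ⟨rfl, K, iK, iF, 1, le_refl _, by rw [hK]; norm_num, e'⟩)))
  · omega

/-- **The list in degree four.** -/
theorem four_list (hk : IsKnownSimple' T) (hT : ¬ IsMulCommutative T) :
    Small4 p T ∨ IsLieTypeChar p T ∨ Rest4 p T := by
  change Res4 p T
  rcases Known.known_split hk (Known.not_primeCyclic hT) with h | ⟨r, hr, h⟩ | h | h
  · exact res_of_alt P hP e h
  · by_cases hrp : r = p
    · subst hrp
      exact Or.inr (Or.inl h)
    · have hrF : (r : F) ≠ 0 := by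
        intro h0
        exact hrp ((Nat.prime_dvd_prime_iff_eq hp.out hr).1 ((CharP.cast_eq_zero_iff F p r).1 h0)).symm
      rcases classical_or_exc h with h1 | h1
      · by_cases h2 : r = 2
        · subst h2
          rcases noR_of_lieTypeChar.{u} Nat.prime_two h with h3 | h3
          · exact res_of_excMult P hP e hT (Ne.symm hrp) h3
          · exact res_of_cl (F := F) Nat.prime_two hrF h1 (PR.of_noR h3 P hP e)
        · refine res_of_cl (F := F) hr hrF h1 (PR.of_perfect P hP hr ?_ e)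
          intro hd
          exact h2 ((Nat.prime_dvd_prime_iff_eq hr Nat.prime_two).1 (hr.dvd_of_dvd_pow (show r ∣ 2 ^ 2 from hd)))
      · exact res_of_exc P hP e hT hr hrp h1
  · exact Or.inr (Or.inr (Or.inr (Or.inl h)))
  · exact Or.inr (Or.inr (Or.inr (Or.inr h)))

end

end Cfsg.Agent.H827.FourList
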