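import Cfsg.Agent.H827.FourList
import Cfsg.Agent.H908.Frob8Cl
import Cfsg.Agent.H906.E9C
import Cfsg.Agent.H95.LSx.F42
import Cfsg.Agent.H95.LSx.Uni

/-!
# The simple groups with a projective representation of degree `4`, second form

`four_list'`: what is left besides `Small4 p` and Lie type in characteristic `p` is `G₂(4)` in odd characteristic, the
Tits group in characteristic `2` and the sporadic groups.
-/

set_option autoImplicit false
set_option linter.unusedSectionVars false

universe u v w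

namespace Cfsg.Agent.H827.FourList

open Cfsg Cfsg.Agent.H912 Cfsg.Agent.H912.Bd Cfsg.Agent.H912.Five Cfsg.Agent.H203.LS

theorem ls_aux {G : Type} [Group G] (H : Subgroup G) {T : Type v} [Group T] (e : Nonempty (T ≃* H))
    (h : LS.{0, u, w} 2 16 H) : LS.{v, u, w} 2 16 T := LS.congr e.some.symm h

theorem ls_tits {T : Type v} [Group T] (h : Lie.IsoTits T) : LS.{v, u, w} 2 16 T :=
  ls_aux (commutator (Lie.twistedF4 (ZMod 2) 1)) h Cfsg.Agent.H95.LSx.Tits.ls

variable {p : ℕ} [hp : Fact p.Prime] {T : Type v} [Group T] {F : Type u} [Field F] [Finite F] [CharP F p]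
  (P : Subgroup (Matrix.GeneralLinearGroup (Fin 4) F)) (hP : ⁅P, P⁆ = P)
  (e : (P ⧸ (Cfsg.Geo.scalars (Fin 4) F).subgroupOf P) ≃* T)

include hP e

/-- **The list in degree four**, second form. -/
theorem four_list' (hk : IsKnownSimple' T) (hT : ¬ IsMulCommutative T) :
    Small4 p T ∨ IsLieTypeChar p T ∨ (p ≠ 2 ∧ Bd.IsG2 4 T) ∨ (p = 2 ∧ Lie.IsoTits T) ∨ IsSporadicGroup T := by
  have hnt : Nontrivial T := by
    by_contra hcon
    rw [not_nontrivial_iff_subsingleton] at hcon
    exact hT ⟨⟨fun a b => Subsingleton.elim _ _⟩⟩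
  have h2F : p ≠ 2 → (2 : F) ≠ 0 := by
    intro h2 h0
    have h1 : ((2 : ℕ) : F) = 0 := by exact_mod_cast h0
    exact h2 ((Nat.prime_dvd_prime_iff_eq hp.out Nat.prime_two).1 ((CharP.cast_eq_zero_iff F p 2).1 h1))
  rcases four_list P hP e hk hT with h | h | h
  · exact Or.inl h
  · exact Or.inr (Or.inl h)
  · rcases h with ⟨h2, h⟩ | h | h
    · have h2' : ((2 : ℕ) : F) ≠ 0 := by exact_mod_cast h2F h2
      rcases h with ⟨m, hm, h⟩ | ⟨h5, h⟩ | h | h | h | h | h
      · exact (Cfsg.Agent.H908.not_four_alt (h2F h2) hP hm h e).elim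
      · exfalso
        obtain ⟨K, _, _, hK, ⟨e'⟩⟩ := h
        have h3 : (3 : F) ≠ 0 := by
          intro h0
          have h1 : ((3 : ℕ) : F) = 0 := by exact_mod_cast h0
          have := (Nat.prime_dvd_prime_iff_eq hp.out Nat.prime_three).1 ((CharP.cast_eq_zero_iff F p 3).1 h1)
          omega
        exact Cfsg.Agent.H906.T14.not_four_L34 h3 hP hK (e.trans e')
      · exfalso
        obtain ⟨K, _, _, hK, ⟨e'⟩⟩ := h
        have h1 : LS.{v, u, u} 2 16 T := LS.congr e'.symm (Cfsg.Agent.H95.LSx.Uni.ls_u62 hK)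
        have := le_of_ls h1 h2' P hP e
        omega
      · exact (Cfsg.Agent.H908.not_four_s62 (h2F h2) hP h e).elim
      · exact (Cfsg.Agent.H908.not_four_o82 (h2F h2) hP h e).elim
      · exact Or.inr (Or.inr (Or.inl ⟨h2, h⟩))
      · exfalso
        obtain ⟨K, _, _, hK, ⟨e'⟩⟩ := h
        have h1 : LS.{v, u, u} 2 16 T := LS.congr e'.symm (Cfsg.Agent.H95.LSx.ls_f4_two hK)
        have := le_of_ls h1 h2' P hP e
        omega
    · by_cases h2 : p = 2
      · exact Or.inr (Or.inr (Or.inr (Or.inl ⟨h2, h⟩)))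
      · exfalso
        have h2' : ((2 : ℕ) : F) ≠ 0 := by exact_mod_cast h2F h2
        have h1 : LS.{v, u, u} 2 16 T := ls_tits h
        have := le_of_ls h1 h2' P hP e
        omega
    · exact Or.inr (Or.inr (Or.inr (Or.inr h)))

end Cfsg.Agent.H827.FourList
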