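import Cfsg.Agent.H827.FStar

/-!
# The centralizer of an involution of type `2.Φ.2` (helper827)

`PD Φ t N` : `t` is an involution of `G`, `N ≤ C(t)` is a quasisimple subgroup normal in `C(t)`, with `N / ⟨t⟩ ≅ Φ`,
`C_{C(t)}(N) = ⟨t⟩` and `|C(t) : N| = 2`. Results: `F*(C(t)) = N`, `|C(t) : N| = 2`, and `C(t)/⟨t⟩ ≅ Aut Φ` if
`|Aut Φ| ≤ 2 |Φ|`.
-/

set_option autoImplicit false

namespace Cfsg.Agent.H827.PairAbs

open Subgroup Cfsg

universe u v

/-- the data at an involution with centralizer `2.Φ.2` -/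
structure PD (Φ : Type v) [Group Φ] {G : Type u} [Group G] (t : G) (N : Subgroup G) : Prop where
  tt : t * t = 1
  t1 : t ≠ 1
  le : ∀ x ∈ N, x * t = t * x
  norm : ∀ c, c * t = t * c → ∀ n ∈ N, c * n * c⁻¹ ∈ N
  qs : IsQuasisimple ↥N
  mem : t ∈ N
  cen : ∀ x, x * t = t * x → (∀ n ∈ N, x * n = n * x) → x = 1 ∨ x = t
  swap : ∃ s, s * t = t * s ∧ s ∉ N ∧ ∀ x, x * t = t * x → x ∉ N → s⁻¹ * x ∈ N
  map : ∃ π : ↥N →* Φ, Function.Surjective π ∧ ∀ n, π n = 1 ↔ (n : G) = 1 ∨ (n : G) = t

/-- the restriction of an isomorphism -/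
def comapEquiv {H : Type*} [Group H] {G : Type*} [Group G] (e : H ≃* G) (N : Subgroup G) :
    ↥(N.comap e.toMonoidHom) ≃* ↥N where
  toFun x := ⟨e x, x.2⟩
  invFun y := ⟨e.symm y, by
    show e (e.symm y) ∈ N
    rw [e.apply_symm_apply]
    exact y.2⟩
  left_inv x := Subtype.ext (e.symm_apply_apply _)
  right_inv y := Subtype.ext (e.apply_symm_apply _)
  map_mul' x y := Subtype.ext (map_mul e _ _)

namespace PD

variable {Φ : Type v} [Group Φ] {G : Type u} [Group G] {t : G} {N : Subgroup G} (D : PD Φ t N)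

include D

theorem comap {H : Type*} [Group H] (e : H ≃* G) {t' : H} (ht : e t' = t) : PD Φ t' (N.comap e.toMonoidHom) where
  tt := by
    apply e.injective
    rw [map_mul, ht, D.tt, map_one]
  t1 := by
    rintro rfl
    rw [map_one] at ht
    exact D.t1 ht.symm
  le x hx := by
    apply e.injective
    rw [map_mul, map_mul, ht]
    exact D.le _ hx
  norm c hc n hn := by
    show e (c * n * c⁻¹) ∈ N
    rw [map_mul, map_mul, map_inv]
    apply D.norm _ _ _ hn
    rw [← ht, ← map_mul, hc, map_mul]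
  qs := by
    exact SignalizersComponents.Components.isQuasisimple_of_mulEquiv (comapEquiv e N).symm D.qs
  mem := by
    show e t' ∈ N
    rw [ht]
    exact D.mem
  cen x hx hn := by
    have h1 : e x * t = t * e x := by rw [← ht, ← map_mul, hx, map_mul]
    rcases D.cen (e x) h1 (fun n hn' => by
      have h2 := hn (e.symm n) (by
        show e (e.symm n) ∈ N
        rw [e.apply_symm_apply]
        exact hn')
      have h3 := congrArg e h2
      rwa [map_mul, map_mul, e.apply_symm_apply] at h3) with h | h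
    · left
      apply e.injective
      rw [h, map_one]
    · right
      apply e.injective
      rw [h, ht]
  swap := by
    obtain ⟨s, h1, h2, h3⟩ := D.swap
    refine ⟨e.symm s, ?_, ?_, ?_⟩
    · apply e.injective
      rw [map_mul, map_mul, e.apply_symm_apply, ht, h1]
    · intro h
      have h' : e (e.symm s) ∈ N := h
      rw [e.apply_symm_apply] at h'
      exact h2 h'
    · intro x hx hn
      show e ((e.symm s)⁻¹ * x) ∈ N
      rw [map_mul, map_inv, e.apply_symm_apply]
      exact h3 _ (by rw [← ht, ← map_mul, hx, map_mul]) hn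
  map := by
    obtain ⟨π, h1, h2⟩ := D.map
    let f : ↥(N.comap e.toMonoidHom) →* ↥N := (e.toMonoidHom.subgroupComap N)
    have hf : ∀ n : ↥(N.comap e.toMonoidHom), (f n : G) = e n := fun _ => rfl
    refine ⟨π.comp f, ?_, ?_⟩
    · intro y
      obtain ⟨n, rfl⟩ := h1 y
      refine ⟨⟨e.symm n, ?_⟩, ?_⟩
      · show e (e.symm n) ∈ N
        rw [e.apply_symm_apply]
        exact n.2
      · show π _ = π _
        congr 1
        apply Subtype.ext
        rw [hf]
        exact e.apply_symm_apply _
    · intro n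
      show π (f n) = 1 ↔ _
      rw [h2, hf, ← ht]
      constructor
      · rintro (h | h)
        · left; apply e.injective; rw [h, map_one]
        · right; exact e.injective h
      · rintro (h | h)
        · left; rw [h, map_one]
        · right; rw [h]

theorem N_le : N ≤ centralizer ({t} : Set G) := fun x hx => mem_centralizer_singleton_iff.2 (D.le x hx)

omit [Group Φ] D in
theorem t_mem : t ∈ centralizer ({t} : Set G) := mem_centralizer_singleton_iff.2 rfl

/-- `N` inside the centralizer -/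
theorem sub_normal : (N.subgroupOf (centralizer ({t} : Set G))).Normal := by
  constructor
  intro n hn c
  rw [mem_subgroupOf] at hn ⊢
  exact D.norm _ (mem_centralizer_singleton_iff.1 c.2) _ hn

theorem sub_index : (N.subgroupOf (centralizer ({t} : Set G))).index = 2 := by
  obtain ⟨s, h1, h2, h3⟩ := D.swap
  rw [index_eq_two_iff]
  refine ⟨⟨s, mem_centralizer_singleton_iff.2 h1⟩⁻¹, fun b => ?_⟩
  have hb := mem_centralizer_singleton_iff.1 b.2
  by_cases hbN : (b : G) ∈ N
  · right
    refine ⟨hbN, fun h => h2 ?_⟩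
    rw [mem_subgroupOf] at h
    have h' : (b : G) * s⁻¹ ∈ N := h
    have := N.mul_mem (N.inv_mem h') hbN
    rwa [mul_inv_rev, inv_inv, mul_assoc, inv_mul_cancel, mul_one] at this
  · left
    refine ⟨?_, hbN⟩
    rw [mem_subgroupOf]
    show (b : G) * s⁻¹ ∈ N
    have h4 := h3 b hb hbN
    have h5 := D.norm b hb _ (N.inv_mem h4)
    -- b (b⁻¹ s) b⁻¹ = s b⁻¹
    have h6 := N.inv_mem h5
    have h7 : (b * (s⁻¹ * (b : G))⁻¹ * (b : G)⁻¹)⁻¹ = b * s⁻¹ := by group
    rwa [h7] at h6

theorem sub_qs : IsQuasisimple ↥(N.subgroupOf (centralizer ({t} : Set G))) :=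
  SignalizersComponents.Components.isQuasisimple_of_mulEquiv (subgroupOfEquivOfLe D.N_le).symm D.qs

theorem sub_cen : centralizer ((N.subgroupOf (centralizer ({t} : Set G)) :
    Subgroup ↥(centralizer ({t} : Set G))) : Set ↥(centralizer ({t} : Set G))) ≤
      N.subgroupOf (centralizer ({t} : Set G)) := by
  intro x hx
  rw [mem_subgroupOf]
  rcases D.cen x (mem_centralizer_singleton_iff.1 x.2) (fun n hn => by
    have h1 := mem_centralizer_iff.1 hx ⟨n, D.N_le hn⟩ hn
    exact (congrArg Subtype.val h1).symm) with h | h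
  · rw [h]; exact N.one_mem
  · rw [h]; exact D.mem

/-- `F*(C(t)) = N` -/
theorem fstar : generalizedFittingSubgroup ↥(centralizer ({t} : Set G)) = N.subgroupOf (centralizer ({t} : Set G)) :=
  FStar.fstar_eq D.sub_normal D.sub_qs D.sub_cen

theorem layer_eq : layer ↥(centralizer ({t} : Set G)) = N.subgroupOf (centralizer ({t} : Set G)) :=
  FStar.layer_eq D.sub_normal D.sub_qs D.sub_cen

theorem mem_zpowers {x : G} : x ∈ zpowers t ↔ x = 1 ∨ x = t := by
  constructor
  · rintro ⟨k, rfl⟩
    rcases Int.even_or_odd' k with ⟨m, h | h⟩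
    · left
      show t ^ k = 1
      rw [h, zpow_mul, zpow_ofNat, pow_two, D.tt, one_zpow]
    · right
      show t ^ k = t
      rw [h, zpow_add, zpow_mul, zpow_ofNat, pow_two, D.tt, one_zpow, one_mul, zpow_one]
  · rintro (rfl | rfl)
    · exact one_mem _
    · exact mem_zpowers _

theorem card_zpowers : Nat.card ↥((zpowers t).subgroupOf (centralizer ({t} : Set G))) = 2 := by
  have h1 : zpowers t ≤ centralizer ({t} : Set G) := by
    rw [zpowers_le]
    exact t_mem
  rw [Nat.card_congr (subgroupOfEquivOfLe h1).toEquiv, Nat.card_zpowers]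
  exact orderOf_eq_prime (by rw [pow_two, D.tt]) D.t1

/-- **`C(t)/⟨t⟩ ≅ Aut Φ`** -/
theorem quo [Finite G] [Finite Φ] (hΦ : Nat.card (MulAut Φ) ≤ 2 * Nat.card Φ)
    [hn : ((zpowers t).subgroupOf (centralizer ({t} : Set G))).Normal] :
    Nonempty (↥(centralizer ({t} : Set G)) ⧸ (zpowers t).subgroupOf (centralizer ({t} : Set G)) ≃* MulAut Φ) := by
  obtain ⟨π, h1, h2⟩ := D.map
  have hnN := D.sub_normal
  let f : ↥(N.subgroupOf (centralizer ({t} : Set G))) ≃* ↥N := subgroupOfEquivOfLe D.N_le
  have hs : Function.Surjective (π.comp f.toMonoidHom) := by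
    intro y
    obtain ⟨n, rfl⟩ := h1 y
    refine ⟨f.symm n, ?_⟩
    show π (f (f.symm n)) = _
    rw [f.apply_symm_apply]
  have hcard : Nat.card ↥(N.subgroupOf (centralizer ({t} : Set G))) = 2 * Nat.card Φ := by
    rw [Nat.card_congr f.toEquiv]
    have h3 : Nat.card ↥N = Nat.card ↥π.ker * π.ker.index := (card_mul_index _).symm
    rw [index_ker, MonoidHom.range_eq_top.2 h1, Nat.card_congr topEquiv.toEquiv] at h3
    rw [h3]
    congr 1
    have h4 : π.ker = (zpowers t).subgroupOf N := by
      ext n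
      rw [MonoidHom.mem_ker, h2, mem_subgroupOf, D.mem_zpowers]
    have h5 : zpowers t ≤ N := by
      rw [zpowers_le]
      exact D.mem
    rw [h4, Nat.card_congr (subgroupOfEquivOfLe h5).toEquiv, Nat.card_zpowers]
    exact orderOf_eq_prime (by rw [pow_two, D.tt]) D.t1
  apply FStar.mulAut_equiv (Z := (zpowers t).subgroupOf (centralizer ({t} : Set G)))
    (N := N.subgroupOf (centralizer ({t} : Set G))) (π.comp f.toMonoidHom) hs
  · intro n
    show π (f n) = 1 ↔ _
    rw [h2, mem_subgroupOf, D.mem_zpowers]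
    rfl
  · exact D.sub_qs.1
  · intro z hz n _
    rw [mem_subgroupOf, D.mem_zpowers] at hz
    apply Subtype.ext
    show (z : G) * n = n * z
    rcases hz with h | h
    · rw [h, one_mul, mul_one]
    · rw [h]; exact (mem_centralizer_singleton_iff.1 n.2).symm
  · intro x hx
    rw [mem_subgroupOf, D.mem_zpowers]
    exact D.cen x (mem_centralizer_singleton_iff.1 x.2) fun n hn =>
      congrArg Subtype.val (hx ⟨n, D.N_le hn⟩ hn)
  · have h6 := card_mul_index (N.subgroupOf (centralizer ({t} : Set G)))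
    have h7 := card_mul_index ((zpowers t).subgroupOf (centralizer ({t} : Set G)))
    rw [D.sub_index, hcard] at h6
    rw [D.card_zpowers] at h7
    have h8 : ((zpowers t).subgroupOf (centralizer ({t} : Set G))).index = 2 * Nat.card Φ := by omega
    rw [h8]
    exact hΦ

end PD

end Cfsg.Agent.H827.PairAbs
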