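import Mathlib

/-!
Elements of order three of `S₈` commuting with an element of order five.
-/

set_option autoImplicit false

namespace Cfsg.Agent.H827.PermEight

open Equiv Equiv.Perm Function
open scoped Pointwise

theorem iterate_apply (s : Perm (Fin 8)) (n : ℕ) (x : Fin 8) : (s ^ n) x = s^[n] x := by
  rw [← Equiv.Perm.iterate_eq_pow]

/-- An element commuting with an element `s` of order five, of order dividing three, fixes the points
moved by `s`. -/
theorem fix_of_moved {t s : Perm (Fin 8)} (ht : t ^ 3 = 1) (hs : s ^ 5 = 1)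
    (hc : t * s = s * t) {y : Fin 8} (hy : s y ≠ y) : t y = y := by
  have hp : Function.minimalPeriod s y = 5 := by
    apply Function.minimalPeriod_eq_prime (hp := ⟨by norm_num⟩)
    · change s^[5] y = y
      rw [← iterate_apply, hs]
      rfl
    · exact hy
  have hty : s (t y) ≠ t y := by
    intro h
    have h1 : t (s y) = t y := by
      have := congrArg (fun f : Perm (Fin 8) => f y) hc
      simp only [Equiv.Perm.mul_apply] at this
      rw [this, h]
    exact hy (t.injective h1)
  have hp' : Function.minimalPeriod s (t y) = 5 := by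
    apply Function.minimalPeriod_eq_prime (hp := ⟨by norm_num⟩)
    · change s^[5] (t y) = t y
      rw [← iterate_apply, hs]
      rfl
    · exact hty
  have hinj : ∀ z, Function.minimalPeriod s z = 5 →
      ((Finset.range 5).image fun n => s^[n] z).card = 5 := by
    intro z hz
    rw [Finset.card_image_of_injOn, Finset.card_range]
    have := Function.iterate_injOn_Iio_minimalPeriod (f := s) (x := z)
    rw [hz] at this
    intro a ha b hb hab
    exact this (by simpa using ha) (by simpa using hb) hab
  -- the two orbits meet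
  obtain ⟨w, hw⟩ : ∃ w, w ∈ ((Finset.range 5).image fun n => s^[n] y) ∩
      ((Finset.range 5).image fun n => s^[n] (t y)) := by
    by_contra hcon
    push Not at hcon
    have hd : Disjoint ((Finset.range 5).image fun n => s^[n] y)
        ((Finset.range 5).image fun n => s^[n] (t y)) := by
      rw [Finset.disjoint_iff_inter_eq_empty]
      exact Finset.eq_empty_of_forall_notMem hcon
    have h1 := Finset.card_union_of_disjoint hd
    rw [hinj y hp, hinj _ hp'] at h1
    have h2 := Finset.card_le_univ (((Finset.range 5).image fun n => s^[n] y) ∪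
      ((Finset.range 5).image fun n => s^[n] (t y)))
    rw [h1, Fintype.card_fin] at h2
    omega
  rw [Finset.mem_inter, Finset.mem_image, Finset.mem_image] at hw
  obtain ⟨⟨i, hi, hiw⟩, ⟨j, hj, hjw⟩⟩ := hw
  rw [Finset.mem_range] at hi hj
  have hk : t y = s^[(5 - j) + i] y := by
    have h1 : s^[5] (t y) = t y := by
      rw [← iterate_apply, hs]
      rfl
    rw [Function.iterate_add_apply, hiw, ← hjw, ← Function.iterate_add_apply,
      Nat.sub_add_cancel hj.le, h1]
  set k := (5 - j) + i with hkdef
  have hts : ∀ (n : ℕ) (z : Fin 8), t (s^[n] z) = s^[n] (t z) := by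
    intro n z
    rw [← iterate_apply, ← iterate_apply, ← Equiv.Perm.mul_apply, ← Equiv.Perm.mul_apply]
    have : t * s ^ n = s ^ n * t := (Commute.pow_right (show Commute t s from hc) n)
    rw [this]
  have h3 : s^[k + (k + k)] y = y := by
    have h1 : (t ^ 3) y = y := by rw [ht]; rfl
    have h2 : (t ^ 3) y = t (t (t y)) := by
      rw [pow_succ, pow_two]
      rfl
    rw [h2, hk, hts, hk, hts, hts, hk] at h1
    rw [Function.iterate_add_apply s k (k + k), Function.iterate_add_apply s k k]
    exact h1
  have h4 : 5 ∣ k + (k + k) := by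
    have := Function.IsPeriodicPt.minimalPeriod_dvd (show IsPeriodicPt s (k + (k + k)) y from h3)
    rwa [hp] at this
  have h5 : 5 ∣ k := by omega
  obtain ⟨m, hm⟩ := h5
  rw [hk, hm]
  have h6 : IsPeriodicPt s (5 * m) y := by
    apply (Function.isPeriodicPt_iff_minimalPeriod_dvd).2
    rw [hp]
    exact dvd_mul_right _ _
  exact h6

theorem support_card {t s : Perm (Fin 8)} (ht : t ^ 3 = 1) (ht1 : t ≠ 1) (hs : s ^ 5 = 1)
    (hs1 : s ≠ 1) (hc : t * s = s * t) : t.support.card = 3 := by
  obtain ⟨y, hy⟩ : ∃ y, s y ≠ y := by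
    by_contra hcon
    push Not at hcon
    exact hs1 (Equiv.ext hcon)
  have hp : Function.minimalPeriod s y = 5 := by
    apply Function.minimalPeriod_eq_prime (hp := ⟨by norm_num⟩)
    · change s^[5] y = y
      rw [← iterate_apply, hs]
      rfl
    · exact hy
  have h5 : 5 ≤ s.support.card := by
    have h1 : ((Finset.range 5).image fun n => s^[n] y).card = 5 := by
      rw [Finset.card_image_of_injOn, Finset.card_range]
      have := Function.iterate_injOn_Iio_minimalPeriod (f := s) (x := y)
      rw [hp] at this
      intro a ha b hb hab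
      exact this (by simpa using ha) (by simpa using hb) hab
    rw [← h1]
    apply Finset.card_le_card
    intro z hz
    rw [Finset.mem_image] at hz
    obtain ⟨n, -, rfl⟩ := hz
    rw [Equiv.Perm.mem_support, ← iterate_apply, ← Equiv.Perm.mul_apply]
    intro h
    have h2 : (s ^ n) (s y) = (s ^ n) y := by
      rw [← Equiv.Perm.mul_apply, ← pow_succ, pow_succ', h]
    exact hy ((s ^ n).injective h2)
  have hd : Disjoint t.support s.support := by
    rw [Finset.disjoint_left]
    intro z hz hz'
    rw [Equiv.Perm.mem_support] at hz hz'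
    exact hz (fix_of_moved ht hs hc hz')
  have h3 : t.support.card ≤ 3 := by
    have h1 := Finset.card_union_of_disjoint hd
    have h2 := Finset.card_le_univ (t.support ∪ s.support)
    rw [h1, Fintype.card_fin] at h2
    omega
  have h2 : 2 ≤ t.support.card := Equiv.Perm.two_le_card_support_of_ne_one ht1
  have h4 : t.support.card ≠ 2 := by
    intro h
    obtain ⟨a, b, hab, rfl⟩ := Equiv.Perm.card_support_eq_two.1 h
    rw [pow_succ, pow_two, Equiv.swap_mul_self, one_mul] at ht
    exact ht1 ht
  omega

/-- Two elements of order three with the same support of three points are equal or inverse. -/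
theorem eq_or_eq_inv {t t' : Perm (Fin 8)} (ht : t ^ 3 = 1) (h3 : t.support.card = 3)
    (ht' : t' ^ 3 = 1) (h : t'.support = t.support) : t' = t ∨ t' = t⁻¹ := by
  have key : ∀ t : Perm (Fin 8), t ^ 3 = 1 → ∀ x ∈ t.support,
      t x ≠ x ∧ t (t x) ≠ x ∧ t (t x) ≠ t x ∧ t (t (t x)) = x := by
    intro t ht x hx
    rw [Equiv.Perm.mem_support] at hx
    have h1 : t (t (t x)) = x := by
      have h1 : (t ^ 3) x = x := by rw [ht]; rfl
      rwa [pow_succ, pow_two] at h1
    refine ⟨hx, fun h2 => hx ?_, fun h2 => hx (t.injective h2), h1⟩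
    rw [h2] at h1
    exact h1
  obtain ⟨x, hx⟩ : t.support.Nonempty := by
    rw [← Finset.card_pos]
    omega
  obtain ⟨a1, a2, a3, a4⟩ := key t ht x hx
  obtain ⟨b1, b2, b3, b4⟩ := key t' ht' x (h ▸ hx)
  have hsup : t.support = {x, t x, t (t x)} := by
    symm
    apply Finset.eq_of_subset_of_card_le
    · intro z hz
      simp only [Finset.mem_insert, Finset.mem_singleton] at hz
      rcases hz with rfl | rfl | rfl
      · exact hx
      · rwa [Equiv.Perm.apply_mem_support]
      · rwa [Equiv.Perm.apply_mem_support, Equiv.Perm.apply_mem_support]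
    · rw [h3, Finset.card_insert_of_notMem, Finset.card_insert_of_notMem, Finset.card_singleton]
      · simpa using a3.symm
      · simp only [Finset.mem_insert, Finset.mem_singleton, not_or]
        exact ⟨a1.symm, a2.symm⟩
  have hm1 : t' x ∈ ({x, t x, t (t x)} : Finset (Fin 8)) := by
    rw [← hsup, ← h, Equiv.Perm.apply_mem_support, h]
    exact hx
  have hm2 : t' (t' x) ∈ ({x, t x, t (t x)} : Finset (Fin 8)) := by
    rw [← hsup, ← h, Equiv.Perm.apply_mem_support, Equiv.Perm.apply_mem_support, h]
    exact hx
  simp only [Finset.mem_insert, Finset.mem_singleton] at hm1 hm2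
  have hout : ∀ z, z ∉ t.support → t z = z ∧ t' z = z ∧ t⁻¹ z = z := by
    intro z hz
    refine ⟨Equiv.Perm.notMem_support.1 hz, ?_, ?_⟩
    · rw [← h] at hz
      exact Equiv.Perm.notMem_support.1 hz
    · rw [← Equiv.Perm.support_inv] at hz
      exact Equiv.Perm.notMem_support.1 hz
  rcases hm1 with h1 | h1 | h1
  · exact absurd h1 b1
  · left
    have h2 : t' (t' x) = t (t x) := by
      rcases hm2 with h2 | h2 | h2
      · exact absurd h2 b2
      · exact absurd (h2.trans h1.symm) b3
      · exact h2
    ext z
    congr 1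
    by_cases hz : z ∈ t.support
    · rw [hsup] at hz
      simp only [Finset.mem_insert, Finset.mem_singleton] at hz
      rcases hz with rfl | rfl | rfl
      · exact h1
      · rw [← h1, h2, h1]
      · rw [← h2, b4, h2, a4]
    · rw [(hout z hz).1, (hout z hz).2.1]
  · right
    have h2 : t' (t' x) = t x := by
      rcases hm2 with h2 | h2 | h2
      · exact absurd h2 b2
      · exact h2
      · exact absurd (h2.trans h1.symm) b3
    have hinv1 : t⁻¹ x = t (t x) := by rw [Equiv.Perm.inv_eq_iff_eq, a4]
    have hinv2 : t⁻¹ (t x) = x := by rw [Equiv.Perm.inv_eq_iff_eq]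
    have hinv3 : t⁻¹ (t (t x)) = t x := by rw [Equiv.Perm.inv_eq_iff_eq]
    ext z
    congr 1
    by_cases hz : z ∈ t.support
    · rw [hsup] at hz
      simp only [Finset.mem_insert, Finset.mem_singleton] at hz
      rcases hz with rfl | rfl | rfl
      · rw [h1, hinv1]
      · rw [hinv2, ← h2, b4]
      · rw [hinv3, ← h1, h2]
    · rw [(hout z hz).2.2, (hout z hz).2.1]

/-- The normaliser of a group generated by a 3-cycle is the stabiliser of its support. -/
theorem conj_iff {t g : Perm (Fin 8)} (ht : t ^ 3 = 1) (h3 : t.support.card = 3) :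
    (g * t * g⁻¹ = t ∨ g * t * g⁻¹ = t⁻¹) ↔ t.support.map g.toEmbedding = t.support := by
  rw [← Equiv.Perm.support_conj]
  constructor
  · rintro (h | h)
    · rw [h]
    · rw [h, Equiv.Perm.support_inv]
  · intro h
    refine eq_or_eq_inv ht h3 ?_ h
    rw [conj_pow, ht, mul_one, mul_inv_cancel]

/-- The normaliser in `A₈` of a subgroup generated by a 3-cycle is maximal. -/
theorem isCoatom_stab {t : Perm (Fin 8)} (h3 : t.support.card = 3) :
    IsCoatom (MulAction.stabilizer (alternatingGroup (Fin 8)) ((t.support : Finset (Fin 8)) : Set (Fin 8))) := by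
  apply alternatingGroup.isCoatom_stabilizer
  · rw [Finset.coe_nonempty, ← Finset.card_pos]
    omega
  · rw [← Finset.coe_compl, Finset.coe_nonempty, ← Finset.card_pos, Finset.card_compl, h3]
    simp
  · rw [Set.ncard_coe_finset, h3]
    simp

theorem mem_stab_iff {t : Perm (Fin 8)} (ht : t ^ 3 = 1) (h3 : t.support.card = 3)
    (g : alternatingGroup (Fin 8)) :
    g ∈ MulAction.stabilizer (alternatingGroup (Fin 8)) ((t.support : Finset (Fin 8)) : Set (Fin 8)) ↔
      ((g : Perm (Fin 8)) * t * (g : Perm (Fin 8))⁻¹ = t ∨
        (g : Perm (Fin 8)) * t * (g : Perm (Fin 8))⁻¹ = t⁻¹) := by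
  rw [conj_iff ht h3, MulAction.mem_stabilizer_iff, ← Finset.coe_inj, Finset.coe_map]
  rfl

end Cfsg.Agent.H827.PermEight
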