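import Mathlib
import Cfsg.Agent.CTwoTab.Exc

/-!
# The centralizer of a subgroup of order 3: abstract form (helper827)
-/

set_option autoImplicit false

namespace Cfsg.Agent.H827.ZFin

open Cfsg Subgroup
open Cfsg.Agent.CTwoTab (ker_eq_center quoCenterEquiv quo_quasisimple)
open scoped commutatorElement

universe u v

/-- a generator of a group of order 3 -/
theorem exists_gen {H : Type*} [Group H] {X : Subgroup H} (hX : Nat.card X = 3) :
    ∃ x ∈ X, x ≠ 1 ∧ x ^ 3 = 1 ∧ orderOf x = 3 ∧ ∀ y ∈ X, y = 1 ∨ y = x ∨ y = x⁻¹ := by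
  have hf : Fact (Nat.Prime 3) := ⟨Nat.prime_three⟩
  have : Finite ↥X := Nat.finite_of_card_ne_zero (by rw [hX]; norm_num)
  have hc : IsCyclic ↥X := isCyclic_of_prime_card hX
  obtain ⟨g, hg⟩ := hc.exists_generator
  have h1 : orderOf g = 3 := by rw [orderOf_eq_card_of_forall_mem_zpowers hg, hX]
  have h2 : orderOf (g : H) = 3 := by rw [Subgroup.orderOf_coe, h1]
  have h3 : (g : H) ^ 3 = 1 := by rw [← h2, pow_orderOf_eq_one]
  have h4 : (g : H) ≠ 1 := by
    intro h
    rw [h, orderOf_one] at h2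
    norm_num at h2
  refine ⟨g, g.2, h4, h3, h2, fun y hy => ?_⟩
  classical
  have h5 : (⟨y, hy⟩ : ↥X) ∈ zpowers g := hg _
  obtain ⟨n, hn, hny⟩ := Finset.mem_image.1 (mem_zpowers_iff_mem_range_orderOf.1 h5)
  rw [Finset.mem_range, h1] at hn
  have h8 : (g : H) ^ n = y := congrArg Subtype.val hny
  interval_cases n
  · left; rw [← h8, pow_zero]
  · right; left; rw [← h8, pow_one]
  · right; right
    rw [← h8]
    apply eq_inv_of_mul_eq_one_left
    rw [← pow_succ, h3]

/-- **the final step** -/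
theorem final {H : Type u} [Group H] {Q N M X : Subgroup H} [hQn : Q.Normal] [hNn : N.Normal] {z : H}
    (hz : z * z = 1) (hz1 : z ≠ 1) (hzc : ∀ h, h * z = z * h)
    (hX : Nat.card X = 3) (hN : N = X ⊔ Q) {Φ : Type v} [Group Φ] (φ : M ⧸ N.subgroupOf M ≃* Φ) (hΦ : center Φ = ⊥)
    (hs : IsSimpleGroup Φ) (hCM : centralizer (X : Set H) ≤ M)
    (hMC : ∀ m ∈ M, ∃ q ∈ Q, m * q ∈ centralizer (X : Set H))
    (hCQ : ∀ q ∈ Q, q ∈ centralizer (X : Set H) → q = 1 ∨ q = z)
    (hperf : ⁅centralizer (X : Set H), centralizer (X : Set H)⁆ = centralizer (X : Set H)) :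
    IsQuasisimple ↥(centralizer (X : Set H)) ∧ IsCyclic ↥(center ↥(centralizer (X : Set H))) ∧
      Nat.card ↥(center ↥(centralizer (X : Set H))) = 6 ∧
      Nonempty (↥(centralizer (X : Set H)) ⧸ center ↥(centralizer (X : Set H)) ≃* Φ) := by
  obtain ⟨x, hxX, hx1, hx3, hxo, hall⟩ := exists_gen hX
  have hXC : ∀ y : H, y ∈ centralizer (X : Set H) ↔ y * x = x * y := by
    intro y
    rw [mem_centralizer_iff]
    constructor
    · intro h
      exact (h x hxX).symm
    · intro h w hw
      have hc : Commute y x := h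
      rcases hall w hw with rfl | rfl | rfl
      · rw [one_mul, mul_one]
      · exact h.symm
      · exact hc.inv_right.eq.symm
  have hxC : x ∈ centralizer (X : Set H) := (hXC x).2 rfl
  have hzC : z ∈ centralizer (X : Set H) := (hXC z).2 (hzc x).symm
  let π : ↥(centralizer (X : Set H)) →* Φ :=
    φ.toMonoidHom.comp ((QuotientGroup.mk' (N.subgroupOf M)).comp (inclusion hCM))
  have hπ : ∀ c : ↥(centralizer (X : Set H)), π c = φ ((inclusion hCM c : ↥M) : ↥M ⧸ N.subgroupOf M) := fun _ => rfl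
  have hsurj : Function.Surjective π := by
    intro y
    obtain ⟨m, hm⟩ := QuotientGroup.mk_surjective (φ.symm y)
    obtain ⟨q, hq, hmq⟩ := hMC m m.2
    refine ⟨⟨m * q, hmq⟩, ?_⟩
    rw [hπ, ← φ.apply_symm_apply y, ← hm]
    congr 1
    apply Eq.symm
    rw [QuotientGroup.eq, mem_subgroupOf]
    show (m : H)⁻¹ * (m * q) ∈ N
    rw [inv_mul_cancel_left, hN]
    exact (le_sup_right : Q ≤ X ⊔ Q) hq
  have hker : ∀ c : ↥(centralizer (X : Set H)), π c = 1 → ∃ y ∈ X, (c : H) = y ∨ (c : H) = y * z := by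
    intro c hc
    rw [hπ, map_eq_one_iff φ φ.injective, QuotientGroup.eq_one_iff, mem_subgroupOf] at hc
    have h1 : (c : H) ∈ N := hc
    rw [hN, mem_sup_of_normal_right] at h1
    obtain ⟨y, hy, q, hq, hyq⟩ := h1
    have hyC : y ∈ centralizer (X : Set H) := by
      rw [hXC]
      rcases hall y hy with rfl | rfl | rfl
      · rw [one_mul, mul_one]
      · rfl
      · group
    have hqC : q ∈ centralizer (X : Set H) := by
      have h2 : q = y⁻¹ * (c : H) := by rw [← hyq, inv_mul_cancel_left]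
      rw [h2]
      exact mul_mem (inv_mem hyC) c.2
    refine ⟨y, hy, ?_⟩
    rcases hCQ q hq hqC with h3 | h3
    · left; rw [← hyq, h3, mul_one]
    · right; rw [← hyq, h3]
  have hcomm : ∀ y ∈ X, ∀ c : ↥(centralizer (X : Set H)), (c : H) * y = y * c := by
    intro y hy c
    exact (mem_centralizer_iff.1 c.2 y hy).symm
  have hkc : π.ker ≤ center ↥(centralizer (X : Set H)) := by
    intro c hc
    rw [MonoidHom.mem_ker] at hc
    rw [mem_center_iff]
    intro g
    apply Subtype.ext
    show (g : H) * (c : H) = (c : H) * g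
    obtain ⟨y, hy, h1 | h1⟩ := hker c hc
    · rw [h1, hcomm y hy g]
    · rw [h1]
      have c1 : Commute (g : H) y := hcomm y hy g
      have c2 : Commute (g : H) z := hzc g
      exact (c1.mul_right c2).eq
  have hp : _root_.commutator ↥(centralizer (X : Set H)) = ⊤ := by
    have h2 : (_root_.commutator ↥(centralizer (X : Set H))).map (centralizer (X : Set H)).subtype =
      ⁅centralizer (X : Set H), centralizer (X : Set H)⁆ := map_subtype_commutator _
    rw [hperf] at h2
    rw [eq_top_iff]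
    intro c _
    have h3 : (c : H) ∈ (_root_.commutator ↥(centralizer (X : Set H))).map (centralizer (X : Set H)).subtype := by
      rw [h2]; exact c.2
    obtain ⟨y, hy, hyc⟩ := h3
    rwa [← (Subtype.ext hyc : y = c)]
  have hzp : z ∈ centralizer (X : Set H) := hzC
  -- an element of order 6
  have h6 : orderOf (x * z) = 6 := by
    have hzo : orderOf z = 2 := orderOf_eq_prime (by rw [pow_two, hz]) hz1
    have hc : Commute x z := hzc x
    rw [hc.orderOf_mul_eq_mul_orderOf_of_coprime (by rw [hxo, hzo]; norm_num), hxo, hzo]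
  have hwC : x * z ∈ centralizer (X : Set H) := mul_mem hxC hzC
  have hw : (⟨x * z, hwC⟩ : ↥(centralizer (X : Set H))) ∈ center ↥(centralizer (X : Set H)) := by
    rw [mem_center_iff]
    intro g
    apply Subtype.ext
    show (g : H) * (x * z) = x * z * g
    have c1 : Commute (g : H) x := hcomm x hxX g
    have c2 : Commute (g : H) z := hzc g
    exact (c1.mul_right c2).eq
  have h6' : orderOf (⟨⟨x * z, hwC⟩, hw⟩ : ↥(center ↥(centralizer (X : Set H)))) = 6 := by
    rw [← h6, ← Subgroup.orderOf_coe, ← Subgroup.orderOf_coe]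
  have hfX : Finite ↥X := Nat.finite_of_card_ne_zero (by rw [hX]; norm_num)
  let F : ↥X × Bool → ↥(center ↥(centralizer (X : Set H))) := fun p =>
    ⟨⟨(p.1 : H) * (if p.2 then z else 1), mul_mem (by
      rw [hXC]
      rcases hall p.1 p.1.2 with h | h | h <;> rw [h]
      · rw [one_mul, mul_one]
      · group) (by
      split_ifs
      · exact hzC
      · exact one_mem _)⟩, by
      rw [mem_center_iff]
      intro g
      apply Subtype.ext
      show (g : H) * ((p.1 : H) * (if p.2 then z else 1)) = (p.1 : H) * (if p.2 then z else 1) * g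
      have c1 : Commute (g : H) (p.1 : H) := hcomm p.1 p.1.2 g
      have c2 : Commute (g : H) (if p.2 then z else 1) := by
        split_ifs
        · exact hzc g
        · exact Commute.one_right _
      exact (c1.mul_right c2).eq⟩
  have hF : Function.Surjective F := by
    intro c
    have h1 : π (c : ↥(centralizer (X : Set H))) = 1 := by
      have h2 : (c : ↥(centralizer (X : Set H))) ∈ π.ker := by
        rw [ker_eq_center hsurj hΦ hkc]
        exact c.2
      exact h2
    obtain ⟨y, hy, h2 | h2⟩ := hker _ h1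
    · refine ⟨(⟨y, hy⟩, false), ?_⟩
      apply Subtype.ext
      apply Subtype.ext
      show y * (if false then z else 1) = _
      rw [h2]
      simp
    · refine ⟨(⟨y, hy⟩, true), ?_⟩
      apply Subtype.ext
      apply Subtype.ext
      show y * (if true then z else 1) = _
      rw [h2]
      simp
  have hfc : Finite ↥(center ↥(centralizer (X : Set H))) := Finite.of_surjective F hF
  have hcard : Nat.card ↥(center ↥(centralizer (X : Set H))) = 6 := by
    apply le_antisymm
    · have h1 := Nat.card_le_card_of_surjective F hF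
      rw [Nat.card_prod, hX, Nat.card_eq_fintype_card (α := Bool), Fintype.card_bool] at h1
      exact h1
    · rw [← h6']
      exact Nat.le_of_dvd Nat.card_pos (orderOf_dvd_natCard _)
  refine ⟨quo_quasisimple hsurj hΦ hkc hp, ?_, hcard, ⟨quoCenterEquiv hsurj hΦ hkc⟩⟩
  exact isCyclic_of_orderOf_eq_card _ (by rw [h6', hcard])

/-- an element of order 3 generating a normal subgroup modulo `Q` commutes modulo `Q` with the commutators -/
theorem comm_of_normal {W : Type*} [Group W] {x : W} (hall : ∀ g : W, g * x * g⁻¹ = x ∨ g * x * g⁻¹ = x⁻¹) (a b : W) :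
    ⁅a, b⁆ * x = x * ⁅a, b⁆ := by
  have key : ∀ g : W, (g * x * g⁻¹ = x ∧ g⁻¹ * x * g = x) ∨ (g * x * g⁻¹ = x⁻¹ ∧ g⁻¹ * x * g = x⁻¹) := by
    intro g
    rcases hall g with h | h
    · left
      refine ⟨h, ?_⟩
      conv_lhs => rw [← h]
      group
    · right
      refine ⟨h, ?_⟩
      have h1 : g⁻¹ * x⁻¹ * g = x := by rw [← h]; group
      have h2 : g⁻¹ * x * g = (g⁻¹ * x⁻¹ * g)⁻¹ := by group
      rw [h2, h1]
  have h1 : ⁅a, b⁆ * x * ⁅a, b⁆⁻¹ = a * (b * (a⁻¹ * (b⁻¹ * x * b) * a) * b⁻¹) * a⁻¹ := by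
    rw [commutatorElement_def]; group
  have hi : ∀ g y : W, g * y⁻¹ * g⁻¹ = (g * y * g⁻¹)⁻¹ := fun g y => by group
  have hi' : ∀ g y : W, g⁻¹ * y⁻¹ * g = (g⁻¹ * y * g)⁻¹ := fun g y => by group
  rw [← mul_inv_eq_iff_eq_mul, h1]
  rcases key a with ⟨a1, a2⟩ | ⟨a1, a2⟩ <;> rcases key b with ⟨b1, b2⟩ | ⟨b1, b2⟩ <;>
    simp only [a1, a2, b1, b2, hi, hi', inv_inv]

end Cfsg.Agent.H827.ZFin
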