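import Cfsg.Agent.H827.ZThree

/-!
# `z ∈ [C0, C0]` (helper827)

`z` is the product of the six transpositions of a sextet centralizing `x`.
-/

set_option autoImplicit false

namespace Cfsg.Agent.H827.ZSext

open Cfsg Cfsg.Spor Subgroup Cfsg.Agent.KFacts.FiTF Cfsg.Agent.KFacts.FiTF.Defs
open Cfsg.Agent.R08 Cfsg.Agent.R08.FiTwentyFour
open Cfsg.Agent.R08.TetTwo (IsTet Mate)
open Cfsg.Agent.H827.ZLoc Cfsg.Agent.H827.ZThree
open Cfsg.Agent.H827.CocoD (d e)
open Cfsg.Agent.KFacts.FiTTh.BasDef (pr pr_singleton pr_empty)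
open scoped commutatorElement Pointwise

/-- a set of four points with product `z` -/
def Z4 (T : Finset GolayPt) : Prop := T.card = 4 ∧ ((pr e T : Spor.Fi24') : Fi24) = z

theorem z4_T1 : Z4 T1 := ⟨T1_card, pr_T1⟩

theorem card_insert {v : GolayPt} (hv : v ∉ T1) : (insert v T1).card = 5 := by
  rw [Finset.card_insert_of_notMem hv, T1_card]

/-- the octad of `T1` and a further point -/
theorem exists_oct {v : GolayPt} (hv : v ∉ T1) : ∃ O ∈ octads, T1 ⊆ O ∧ v ∈ O ∧ Z4 (O \ T1) := by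
  classical
  obtain ⟨O, ⟨hO, hs⟩, -⟩ := Cfsg.Agent.S0363.result.2 (insert v T1) (card_insert hv)
  have hT : T1 ⊆ O := fun w hw => hs (Finset.mem_insert_of_mem hw)
  refine ⟨O, hO, hT, hs (Finset.mem_insert_self _ _), ?_, ?_⟩
  · rw [Finset.card_sdiff_of_subset hT, hO.2, T1_card]
  · have h1 : symmDiff O T1 = O \ T1 := by
      rw [symmDiff_def, Finset.sdiff_eq_empty_iff_subset.2 hT, Finset.sup_eq_union, Finset.union_empty]
    have h2 := CocoD.pre.pr_symmDiff O T1
    rw [h1, CocoD.pre.pr_oct hO, one_mul] at h2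
    rw [h2, pr_T1]

theorem oct_unique {O O' : Finset GolayPt} (hO : O ∈ octads) (hO' : O' ∈ octads) {U : Finset GolayPt}
    (hU : U.card = 5) (h : U ⊆ O) (h' : U ⊆ O') : O = O' := by
  obtain ⟨X, -, hX⟩ := Cfsg.Agent.S0363.result.2 U hU
  rw [hX O ⟨hO, h⟩, hX O' ⟨hO', h'⟩]

variable {x : Fi24} (H : Dat x)

include H

theorem exists_image {T : Finset GolayPt} (hT : Z4 T) {v : GolayPt} (hv : v ∈ T) :
    ∃ w ∈ T, x * d v * x⁻¹ = d w := by
  obtain ⟨a, b, c, hT', h⟩ := tet_of_set hT.1 hv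
  rw [hT.2] at h
  rcases H.mem4 h with h1 | h1 | h1 | h1
  · exact ⟨v, hv, h1⟩
  · exact ⟨a, by rw [hT']; simp, h1⟩
  · exact ⟨b, by rw [hT']; simp, h1⟩
  · exact ⟨c, by rw [hT']; simp, h1⟩

theorem exists_fix {T : Finset GolayPt} (hT : Z4 T) : ∃ v ∈ T, x * d v * x⁻¹ = d v := by
  obtain ⟨v, hv⟩ : T.Nonempty := by
    rw [← Finset.card_pos, hT.1]
    norm_num
  obtain ⟨a, b, c, hT', h⟩ := tet_of_set hT.1 hv
  rw [hT.2] at h
  rcases H.exists_fix h with h1 | h1 | h1 | h1
  · exact ⟨v, hv, h1⟩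
  · exact ⟨a, by rw [hT']; simp, h1⟩
  · exact ⟨b, by rw [hT']; simp, h1⟩
  · exact ⟨c, by rw [hT']; simp, h1⟩

/-- `x` permutes the 24 transpositions as an element of `M24` -/
theorem exists_m : ∃ m ∈ M24, ∀ p, x * d p * x⁻¹ = d (m p) := by
  have key : ∀ v, ∃ w, x * d v * x⁻¹ = d w := by
    intro v
    by_cases hv : v ∈ T1
    · obtain ⟨w, -, h⟩ := exists_image H z4_T1 hv
      exact ⟨w, h⟩
    · obtain ⟨O, hO, hT, hvO, h4⟩ := exists_oct hv
      obtain ⟨w, -, h⟩ := exists_image H h4 (Finset.mem_sdiff.2 ⟨hvO, hv⟩)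
      exact ⟨w, h⟩
  choose f hf using key
  have hfi : Function.Injective f := by
    intro p q hpq
    apply CocoD.d_inj
    have h2 : x * d p * x⁻¹ = x * d q * x⁻¹ := by rw [hf, hf, hpq]
    exact mul_left_cancel (mul_right_cancel h2)
  have hK : x ∈ commutator Fi24 := frame.EK H.mem.1
  have h1 : (⟨x, hK⟩ : Spor.Fi24') ∈ normalizer (Coco.AA : Set Spor.Fi24') :=
    Coco.mem_normalizer_of (m := Equiv.ofBijective f (Finite.injective_iff_bijective.1 hfi)) hf
  exact Coco.exists_perm h1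

/-- **`z` is in `[C0, C0]`** -/
theorem z_mem : (z : Fi24) ∈ ⁅C0 x, C0 x⁆ := by
  classical
  obtain ⟨m, hm, hmx⟩ := exists_m H
  have fixz : ∀ T, Z4 T → ∃ v ∈ T, m v = v := by
    intro T hT
    obtain ⟨v, hv, h⟩ := exists_fix H hT
    rw [hmx] at h
    exact ⟨v, hv, CocoD.d_inj h⟩
  have mapz : ∀ T, Z4 T → ∀ v ∈ T, m v ∈ T := by
    intro T hT v hv
    obtain ⟨w, hw, h⟩ := exists_image H hT hv
    rw [hmx] at h
    rwa [CocoD.d_inj h]
  obtain ⟨u, hu, hmu⟩ := fixz T1 z4_T1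
  -- two octads
  obtain ⟨O1, hO1, hT1, -, h41⟩ := exists_oct (v := some 3) (by decide)
  obtain ⟨v1, hv1, hmv1⟩ := fixz _ h41
  rw [Finset.mem_sdiff] at hv1
  obtain ⟨v', hv'⟩ : ∃ v', v' ∉ O1 := by
    by_contra hcon
    push Not at hcon
    have h1 : O1 = Finset.univ := Finset.eq_univ_of_forall hcon
    have h2 := hO1.2
    rw [h1, Finset.card_univ] at h2
    have h24 : Fintype.card GolayPt = 24 := by decide +kernel
    omega
  obtain ⟨O2, hO2, hT2, hv'2, h42⟩ := exists_oct (v := v') (fun h => hv' (hT1 h))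
  obtain ⟨v2, hv2, hmv2⟩ := fixz _ h42
  rw [Finset.mem_sdiff] at hv2
  have hv2O1 : v2 ∉ O1 := by
    intro h
    apply hv'
    have h1 : O1 = O2 := oct_unique hO1 hO2 (card_insert hv2.2)
      (Finset.insert_subset h hT1) (Finset.insert_subset hv2.1 hT2)
    rw [h1]
    exact hv'2
  -- the third octad
  obtain ⟨S3, hS3⟩ : ∃ S3, S3 = T1.erase u := ⟨_, rfl⟩
  have hS3T : S3 ⊆ T1 := by rw [hS3]; exact Finset.erase_subset _ _
  have hS3c : S3.card = 3 := by rw [hS3, Finset.card_erase_of_mem hu, T1_card]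
  have hT1S : T1 = insert u S3 := by rw [hS3, Finset.insert_erase hu]
  have hu3 : u ∉ S3 := by rw [hS3]; exact Finset.notMem_erase _ _
  have hU : (insert v1 (insert v2 S3)).card = 5 := by
    rw [Finset.card_insert_of_notMem, Finset.card_insert_of_notMem (fun h => hv2.2 (hS3T h)), hS3c]
    rw [Finset.mem_insert, not_or]
    exact ⟨fun h => hv2O1 (h ▸ hv1.1), fun h => hv1.2 (hS3T h)⟩
  obtain ⟨O, ⟨hO, hUO⟩, huniq⟩ := Cfsg.Agent.S0363.result.2 _ hU
  have hv1O : v1 ∈ O := hUO (Finset.mem_insert_self _ _)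
  have hv2O : v2 ∈ O := hUO (Finset.mem_insert_of_mem (Finset.mem_insert_self _ _))
  have hS3O : S3 ⊆ O := fun w hw => hUO (Finset.mem_insert_of_mem (Finset.mem_insert_of_mem hw))
  have hmT1 : T1.map m.toEmbedding = T1 := by
    apply Finset.eq_of_subset_of_card_le
    · intro w hw
      obtain ⟨w', hw', rfl⟩ := Finset.mem_map.1 hw
      exact mapz T1 z4_T1 w' hw'
    · rw [Finset.card_map]
  have hmO : O.map m.toEmbedding = O := by
    apply huniq
    refine ⟨?_, ?_⟩
    · rw [← SporadicA.GolayPerm.smul_finset_eq_map]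
      exact (SporadicA.GolayPerm.smul_mem_octads hm).2 hO
    · intro w hw
      rw [Finset.mem_map]
      rcases Finset.mem_insert.1 hw with rfl | hw
      · exact ⟨w, hv1O, hmv1⟩
      rcases Finset.mem_insert.1 hw with rfl | hw
      · exact ⟨w, hv2O, hmv2⟩
      have h1 : w ∈ T1.map m.toEmbedding := by rw [hmT1]; exact hS3T hw
      obtain ⟨w', hw', h2⟩ := Finset.mem_map.1 h1
      refine ⟨w', hS3O ?_, h2⟩
      rw [hS3, Finset.mem_erase]
      refine ⟨?_, hw'⟩
      rintro rfl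
      apply hu3
      have h3 : m w' = w := h2
      rwa [← hmu, h3]
  have huO : u ∉ O := by
    intro h
    apply hv2O1
    have hTO : T1 ⊆ O := by
      rw [hT1S]
      exact Finset.insert_subset h hS3O
    have h1 : O1 = O := oct_unique hO1 hO (card_insert hv1.2)
      (Finset.insert_subset hv1.1 hT1) (Finset.insert_subset hv1O hTO)
    rw [h1]
    exact hv2O
  have hα : Fintype.card Cfsg.GolayPt = 24 := by simp
  -- the points of `O \ S3` are fixed
  have hfix : ∀ w ∈ O, w ∉ S3 → m w = w := by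
    intro w hw hw3
    have hwT : w ∉ T1 := by
      rw [hT1S, Finset.mem_insert, not_or]
      exact ⟨fun h => huO (h ▸ hw), hw3⟩
    obtain ⟨Ow, hOw, hTw, hwOw, h4w⟩ := exists_oct hwT
    have hne : O ≠ Ow := fun h => huO (h ▸ hTw hu)
    have hsub : insert w S3 ⊆ O ∩ Ow := by
      intro y hy
      rcases Finset.mem_insert.1 hy with rfl | hy
      · exact Finset.mem_inter.2 ⟨hw, hwOw⟩
      · exact Finset.mem_inter.2 ⟨hS3O hy, hTw (hS3T hy)⟩
    have hc4 : (insert w S3).card = 4 := by rw [Finset.card_insert_of_notMem hw3, hS3c]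
    have h4 : (O ∩ Ow).card = 4 := by
      have h1 := Finset.card_le_card hsub
      rcases Cfsg.Agent.S0352.result hα Cfsg.Agent.S0363.result hO hOw hne with h | h | h <;> omega
    have heq : insert w S3 = O ∩ Ow := Finset.eq_of_subset_of_card_le hsub (by rw [h4, hc4])
    have h5 : m w ∈ O := by
      rw [← hmO]
      exact Finset.mem_map.2 ⟨w, hw, rfl⟩
    have h6 := mapz _ h4w w (Finset.mem_sdiff.2 ⟨hwOw, hwT⟩)
    rw [Finset.mem_sdiff] at h6
    have h7 : m w ∈ insert w S3 := by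
      rw [heq]
      exact Finset.mem_inter.2 ⟨h5, h6.1⟩
    rcases Finset.mem_insert.1 h7 with h8 | h8
    · exact h8
    · exact absurd (hS3T h8) h6.2
  -- the transpositions
  have hDz : ∀ p, d p ∈ Dz := by
    intro p
    refine ⟨Coco.d_mem_L p, ?_⟩
    rw [← pr_T1]
    exact (Coco.d_comm_A (CocoD.pre.pr_mem T1) p).symm
  have hpair : ∀ w, m w = w → ((e w * e u : Spor.Fi24') : Fi24) ∈ ⁅C0 x, C0 x⁆ := by
    intro w hw
    rw [Coco.coe_two]
    exact H.pair_mem_der (hDz w) (hDz u) (by rw [hmx, hw]) (by rw [hmx, hmu])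
  have claim : ∀ W : Finset GolayPt, (∀ w ∈ W, m w = w) →
      ((pr e W * e u ^ W.card : Spor.Fi24') : Fi24) ∈ ⁅C0 x, C0 x⁆ := by
    intro W
    induction W using Finset.induction_on with
    | empty =>
      intro _
      rw [pr_empty, Finset.card_empty, pow_zero, mul_one]
      exact one_mem _
    | insert w W hw ih =>
      intro hW
      have h1 := ih (fun y hy => hW y (Finset.mem_insert_of_mem hy))
      have h2 := hpair w (hW w (Finset.mem_insert_self _ _))
      have h3 : pr e (insert w W) * e u ^ (insert w W).card = (e w * e u) * (pr e W * e u ^ W.card) := by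
        rw [CocoD.pre.pr_insert hw, Finset.card_insert_of_notMem hw, pow_succ']
        have h4 : e u * pr e W = pr e W * e u :=
          CocoD.pre.comm' (Cfsg.Agent.KFacts.FiTTh.BasDef.mem_A e u) (CocoD.pre.pr_mem W)
        calc e w * pr e W * (e u * e u ^ W.card) = e w * (pr e W * e u) * e u ^ W.card := by group
          _ = e w * (e u * pr e W) * e u ^ W.card := by rw [h4]
          _ = _ := by group
      rw [h3, Subgroup.coe_mul]
      exact mul_mem h2 h1
  have hc5 : (O \ S3).card = 5 := by rw [Finset.card_sdiff_of_subset hS3O, hO.2, hS3c]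
  have h1 := claim (O \ S3) (fun w hw => hfix w (Finset.mem_sdiff.1 hw).1 (Finset.mem_sdiff.1 hw).2)
  rw [hc5] at h1
  -- `pr T1 = pr (O \ S3) * e u`
  have h2 : pr e (O \ S3) = pr e S3 := by
    have h3 : symmDiff O S3 = O \ S3 := by
      rw [symmDiff_def, Finset.sdiff_eq_empty_iff_subset.2 hS3O, Finset.sup_eq_union, Finset.union_empty]
    have h4 := CocoD.pre.pr_symmDiff O S3
    rwa [h3, CocoD.pre.pr_oct hO, one_mul] at h4
  have h3 : pr e T1 = pr e (O \ S3) * e u ^ 5 := by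
    have e2 : e u ^ 2 = 1 := by rw [pow_two, CocoD.pre.sq]
    rw [h2, hT1S, CocoD.pre.pr_insert hu3, show (5 : ℕ) = 2 * 2 + 1 by norm_num, pow_succ, pow_mul, e2, one_pow,
      one_mul]
    exact CocoD.pre.comm' (Cfsg.Agent.KFacts.FiTTh.BasDef.mem_A e u) (CocoD.pre.pr_mem S3)
  rw [← h3, pr_T1] at h1
  exact h1

/-- **`C0` is perfect** -/
theorem perf (hC : C0 x ≤ E) : ⁅C0 x, C0 x⁆ = C0 x := by
  apply le_antisymm der_le
  intro c hc
  rcases H.mem_der hc (hC hc) with h | ⟨c', hc', rfl⟩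
  · exact h
  · exact mul_mem hc' (z_mem H)

end Cfsg.Agent.H827.ZSext
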