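import Cfsg.Agent.H827.ZLoc
import Cfsg.Agent.H827.Coco

/-!
# The centralizer of an element `x` of order 3 of `Zc` in `C(z)` (helper827)

`C0 x = C(x) ∩ C(z) ∩ Fi24'`, for `x ∈ Zc`, `x ∉ R`, `x³ = 1`:
* `cent_R` : `C_R(x) = ⟨z⟩`;
* `C0_le` : `C0 x ≤ E` (if `|C_{Fi24'}(z) : E| = 2`);
* `exists_mul` : `E = C0 R`;
* `z_mem` : `z ∈ [C0, C0]`, `perf` : `C0` is perfect.
-/

set_option autoImplicit false

namespace Cfsg.Agent.H827.ZThree

open Cfsg Cfsg.Spor Subgroup Cfsg.Agent.KFacts.FiTF Cfsg.Agent.KFacts.FiTF.Defs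
open Cfsg.Agent.R08 Cfsg.Agent.R08.FiTwentyFour
open Cfsg.Agent.R08.TetTwo (IsTet Mate)
open Cfsg.Agent.KFacts.FiTF.QuasiA (Fixes)
open Cfsg.Agent.H827.ZLoc
open Cfsg.Agent.H827.CocoD (d e)
open Cfsg.Agent.KFacts.FiTTh.BasDef (pr pr_singleton pr_empty)
open scoped commutatorElement

/-- the centralizer -/
def C0 (x : Fi24) : Subgroup Fi24 := commutator Fi24 ⊓ centralizer {z, x}

theorem mem_C0 {x c : Fi24} : c ∈ C0 x ↔ c ∈ commutator Fi24 ∧ c * z = z * c ∧ c * x = x * c := by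
  unfold C0
  rw [mem_inf, mem_centralizer_iff]
  constructor
  · rintro ⟨h1, h2⟩
    exact ⟨h1, (h2 z (by simp)).symm, (h2 x (by simp)).symm⟩
  · rintro ⟨h1, h2, h3⟩
    refine ⟨h1, ?_⟩
    rintro y (rfl | hy)
    · exact h2.symm
    · rw [Set.mem_singleton_iff] at hy
      rw [hy]
      exact h3.symm

theorem C0_z {x c : Fi24} (hc : c ∈ C0 x) : c * z = z * c := (mem_C0.1 hc).2.1

theorem der_le {x : Fi24} : ⁅C0 x, C0 x⁆ ≤ C0 x := by
  rw [commutator_le]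
  intro a ha b hb
  rw [commutatorElement_def]
  exact mul_mem (mul_mem (mul_mem ha hb) (inv_mem ha)) (inv_mem hb)

/-- `[C0, C0] R` -/
def S (x : Fi24) : Subgroup Fi24 where
  carrier := {g | ∃ c ∈ ⁅C0 x, C0 x⁆, ∃ r ∈ R, g = c * r}
  one_mem' := ⟨1, one_mem _, 1, one_mem _, by rw [mul_one]⟩
  mul_mem' := by
    rintro _ _ ⟨c, hc, r, hr, rfl⟩ ⟨c', hc', r', hr', rfl⟩
    refine ⟨c * c', mul_mem hc hc', c'⁻¹ * r * c'⁻¹⁻¹ * r', mul_mem (R_norm ?_ hr) hr', by group⟩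
    exact z_comm_inv (C0_z (der_le hc'))
  inv_mem' := by
    rintro _ ⟨c, hc, r, hr, rfl⟩
    exact ⟨c⁻¹, inv_mem hc, c * r⁻¹ * c⁻¹, R_norm (C0_z (der_le hc)) (inv_mem hr), by group⟩

theorem mem_S {x g : Fi24} : g ∈ S x ↔ ∃ c ∈ ⁅C0 x, C0 x⁆, ∃ r ∈ R, g = c * r := Iff.rfl

/-- the data -/
structure Dat (x : Fi24) : Prop where
  mem : x ∈ Zc
  nR : x ∉ R
  cube : x ^ 3 = 1

namespace Dat

variable {x : Fi24} (H : Dat x)

include H

theorem xz : x * z = z * x := E_z H.mem.1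

theorem inv_eq : x⁻¹ = x * x := by
  have h1 : x * x * x = 1 := by
    rw [← H.cube, pow_succ, pow_two]
  exact (eq_inv_of_mul_eq_one_left h1).symm

theorem sq_not_mem : x * x ∉ R := by
  intro h
  apply H.nR
  have h1 := R.inv_mem h
  rw [← H.inv_eq, inv_inv] at h1
  exact h1

/-- `C_R(x) = ⟨z⟩` -/
theorem cent_R {t : Fi24} (ht : t ∈ R) (hc : t * x = x * t) : t = 1 ∨ t = z := by
  by_contra hcon
  push Not at hcon
  exact H.nR (mem_R_of_fix H.mem ht hcon.1 hcon.2 (Or.inl (by rw [← hc, mul_inv_cancel_right])))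

/-- two members of a tetrad are not both fixed -/
theorem not_two {a b c u : Fi24} (hT : IsTet L z a b c u) (h1 : x * a * x⁻¹ = a) (h2 : x * b * x⁻¹ = b) : False := by
  refine not_eqz H.mem H.nR (pair_mem hT) (pair_ne hT).1 (pair_ne hT).2 (Or.inl ?_)
  rw [ZLoc.conj_mul, h1, h2]

theorem mem4 {a b c u : Fi24} (h : IsTet L z a b c u) : x * a * x⁻¹ = a ∨ x * a * x⁻¹ = b ∨ x * a * x⁻¹ = c ∨
    x * a * x⁻¹ = u := by
  have hDz : a ∈ Dz := by
    refine ⟨h.ha, ?_⟩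
    have h1 : Commute a (a * b * c * u) :=
      (((Commute.refl a).mul_right h.ab).mul_right h.ac).mul_right h.ad
    rw [h.prod] at h1
    exact h1.eq
  rcases small x H.mem a hDz with h1 | h1
  · exact Or.inl h1
  · exact Or.inr (h.mate_cases Tet.tr h1)

theorem pow_conj (y : Fi24) : x * (x * (x * y * x⁻¹) * x⁻¹) * x⁻¹ = y := by
  have h3 : x * x * x = 1 := by rw [← H.cube, pow_succ, pow_two]
  calc x * (x * (x * y * x⁻¹) * x⁻¹) * x⁻¹ = (x * x * x) * y * (x * x * x)⁻¹ := by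
        simp only [mul_inv_rev, mul_assoc]
    _ = y := by rw [h3, one_mul, inv_one, mul_one]

/-- a member of a tetrad is fixed -/
theorem exists_fix {a b c u : Fi24} (h : IsTet L z a b c u) :
    x * a * x⁻¹ = a ∨ x * b * x⁻¹ = b ∨ x * c * x⁻¹ = c ∨ x * u * x⁻¹ = u := by
  classical
  let f : Fin 4 → Fi24 := ![a, b, c, u]
  have hf : Function.Injective f := by
    intro i j hij
    fin_cases i <;> fin_cases j <;> first | rfl | skip
    · exact absurd hij h.nab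
    · exact absurd hij h.nac
    · exact absurd hij h.nad
    · exact absurd hij.symm h.nab
    · exact absurd hij h.nbc
    · exact absurd hij h.nbd
    · exact absurd hij.symm h.nac
    · exact absurd hij.symm h.nbc
    · exact absurd hij h.ncd
    · exact absurd hij.symm h.nad
    · exact absurd hij.symm h.nbd
    · exact absurd hij.symm h.ncd
  have key : ∀ i, ∃ j, x * f i * x⁻¹ = f j := by
    intro i
    fin_cases i
    · rcases H.mem4 h with h1 | h1 | h1 | h1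
      · exact ⟨0, h1⟩
      · exact ⟨1, h1⟩
      · exact ⟨2, h1⟩
      · exact ⟨3, h1⟩
    · rcases H.mem4 h.sw12 with h1 | h1 | h1 | h1
      · exact ⟨1, h1⟩
      · exact ⟨0, h1⟩
      · exact ⟨2, h1⟩
      · exact ⟨3, h1⟩
    · rcases H.mem4 h.sw13 with h1 | h1 | h1 | h1
      · exact ⟨2, h1⟩
      · exact ⟨1, h1⟩
      · exact ⟨0, h1⟩
      · exact ⟨3, h1⟩
    · rcases H.mem4 h.sw14 with h1 | h1 | h1 | h1
      · exact ⟨3, h1⟩
      · exact ⟨1, h1⟩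
      · exact ⟨2, h1⟩
      · exact ⟨0, h1⟩
  choose π hπ using key
  have h3 : ∀ i, π (π (π i)) = i := by
    intro i
    apply hf
    rw [← hπ, ← hπ, ← hπ, H.pow_conj]
  obtain ⟨i, hi⟩ : ∃ i, π i = i := by
    clear hπ
    revert π
    decide +kernel
  have h4 := hπ i
  rw [hi] at h4
  fin_cases i
  · exact Or.inl h4
  · exact Or.inr (Or.inl h4)
  · exact Or.inr (Or.inr (Or.inl h4))
  · exact Or.inr (Or.inr (Or.inr h4))

/-! ### `E = C0 R` -/

theorem exists_mul {g : Fi24} (hg : g ∈ E) : ∃ r ∈ R, g * r ∈ C0 x := by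
  obtain ⟨r, hr, hc⟩ := exists_comm H.cube H.xz (E_z hg) (comm_Zc hg H.mem)
  exact ⟨r, hr, mem_C0.2 ⟨mul_mem (frame.EK hg) (frame.EK (frame.RE hr)),
    E_z (mul_mem hg (frame.RE hr)), hc⟩⟩

/-- **transitivity of `C0` on the transpositions centralizing `x`** -/
theorem trans {p q : Fi24} (hp : p ∈ Dz) (hq : q ∈ Dz) (hpx : x * p * x⁻¹ = p) (hqx : x * q * x⁻¹ = q) :
    ∃ c ∈ C0 x, c ∈ E ∧ c * p * c⁻¹ = q := by
  obtain ⟨w1, hw1, h1⟩ := QuasiBInst.tranE FixZ.tran p hp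
  obtain ⟨w2, hw2, h2⟩ := QuasiBInst.tranE FixZ.tran q hq
  have hg : w2 * w1⁻¹ ∈ E := mul_mem hw2 (inv_mem hw1)
  have hgp : (w2 * w1⁻¹) * p * (w2 * w1⁻¹)⁻¹ = q := by
    rw [← h1, ← h2]
    group
  obtain ⟨r, hr, hc⟩ := H.exists_mul hg
  generalize w2 * w1⁻¹ = g at hg hgp hc
  have hcE : g * r ∈ E := mul_mem hg (frame.RE hr)
  refine ⟨g * r, hc, hcE, ?_⟩
  have e1 : g * r * p * (g * r)⁻¹ = g * (r * p * r⁻¹) * g⁻¹ := by group
  rcases small r (R_le_Zc hr) p hp with h3 | h3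
  · rw [e1, h3, hgp]
  · exfalso
    have h4 := h3.conj Tet.tr (g := g) (E_z hg)
    rw [hgp, ← e1] at h4
    obtain ⟨u, v, h5⟩ := h4
    refine H.not_two h5 hqx ?_
    obtain ⟨-, -, hcx⟩ := mem_C0.1 hc
    have hpx' : x * p = p * x := mul_inv_eq_iff_eq_mul.1 hpx
    have : Commute x (g * r * p * (g * r)⁻¹) := by
      have c1 : Commute x (g * r) := hcx.symm
      have c2 : Commute x p := hpx'
      exact (c1.mul_right c2).mul_right c1.inv_right
    rw [this.eq, mul_inv_cancel_right]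

/-! ### Perfectness -/

theorem E_le_S : E ≤ S x := by
  conv_lhs => rw [← frame.perf]
  rw [commutator_le]
  intro a ha b hb
  obtain ⟨r1, hr1, h1⟩ := H.exists_mul ha
  obtain ⟨r2, hr2, h2⟩ := H.exists_mul hb
  -- `a = c1 s1`, `b = c2 s2`
  obtain ⟨c1, hc1⟩ : ∃ c1, c1 = a * r1 := ⟨_, rfl⟩
  obtain ⟨c2, hc2⟩ : ∃ c2, c2 = b * r2 := ⟨_, rfl⟩
  rw [← hc1] at h1
  rw [← hc2] at h2
  have ea : a = c1 * r1⁻¹ := by rw [hc1, mul_inv_cancel_right]
  have eb : b = c2 * r2⁻¹ := by rw [hc2, mul_inv_cancel_right]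
  have hs1 := R.inv_mem hr1
  have hs2 := R.inv_mem hr2
  generalize r1⁻¹ = s1 at ea hs1
  generalize r2⁻¹ = s2 at eb hs2
  have hz1 := C0_z h1
  have hz2 := C0_z h2
  refine ⟨⁅c1, c2⁆, commutator_mem_commutator h1 h2,
    c2 * ((c1 * ((c2⁻¹ * s1 * c2⁻¹⁻¹) * s2 * s1⁻¹) * c1⁻¹) * s2⁻¹) * c2⁻¹, ?_, ?_⟩
  · exact R_norm hz2 (mul_mem (R_norm hz1 (mul_mem (mul_mem (R_norm (z_comm_inv hz2) hs1) hs2) (inv_mem hs1)))
      (inv_mem hs2))
  · rw [ea, eb, commutatorElement_def, commutatorElement_def]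
    group

/-- every element of `C0 ∩ E` is in `[C0, C0]` up to `z` -/
theorem mem_der {c : Fi24} (hc : c ∈ C0 x) (hcE : c ∈ E) :
    c ∈ ⁅C0 x, C0 x⁆ ∨ ∃ c' ∈ ⁅C0 x, C0 x⁆, c = c' * z := by
  obtain ⟨c', hc', r, hr, h⟩ := mem_S.1 (H.E_le_S hcE)
  have h1 : r = c'⁻¹ * c := by rw [h, inv_mul_cancel_left]
  have h2 : r ∈ C0 x := by
    rw [h1]
    exact mul_mem (inv_mem (der_le hc')) hc
  rcases H.cent_R hr (mem_C0.1 h2).2.2 with h3 | h3
  · left
    rw [h, h3, mul_one]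
    exact hc'
  · right
    exact ⟨c', hc', by rw [h, h3]⟩

omit H in
/-- elements normalizing `C0` normalize `[C0, C0]` -/
theorem norm_der {p : Fi24} (hpz : p * z = z * p) (hpx : p * x = x * p) {c : Fi24} (hc : c ∈ ⁅C0 x, C0 x⁆) :
    p * c * p⁻¹ ∈ ⁅C0 x, C0 x⁆ := by
  have h1 : (C0 x).map (MulAut.conj p).toMonoidHom ≤ C0 x := by
    rintro _ ⟨y, hy, rfl⟩
    obtain ⟨h1, h2, h3⟩ := mem_C0.1 hy
    refine mem_C0.2 ⟨Normal.conj_mem inferInstance y h1 p, ?_, ?_⟩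
    · have c1 : Commute p z := hpz
      have c2 : Commute y z := h2
      exact ((c1.mul_left c2).mul_left c1.inv_left).eq
    · have c1 : Commute p x := hpx
      have c2 : Commute y x := h3
      exact ((c1.mul_left c2).mul_left c1.inv_left).eq
  have h2 : (⁅C0 x, C0 x⁆).map (MulAut.conj p).toMonoidHom ≤ ⁅C0 x, C0 x⁆ := by
    rw [map_commutator]
    exact commutator_mono h1 h1
  exact h2 ⟨c, hc, rfl⟩

/-- **the products of two transpositions centralizing `x` are in `[C0, C0]`** -/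
theorem pair_mem_der {p q : Fi24} (hp : p ∈ Dz) (hq : q ∈ Dz) (hpx : x * p * x⁻¹ = p) (hqx : x * q * x⁻¹ = q) :
    p * q ∈ ⁅C0 x, C0 x⁆ := by
  obtain ⟨c, hc, hcE, rfl⟩ := H.trans hp hq hpx hqx
  have hpp : p * p = 1 := FiTwentyFour.sq hp.1
  have hpi : p⁻¹ = p := inv_eq_of_mul_eq_one_left hpp
  have hpx' : p * x = x * p := (mul_inv_eq_iff_eq_mul.1 hpx).symm
  rcases H.mem_der hc hcE with h | ⟨c', hc', rfl⟩
  · have h1 := mul_mem (norm_der hp.2 hpx' h) (inv_mem h)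
    rwa [hpi, show p * c * p * c⁻¹ = p * (c * p * c⁻¹) by group] at h1
  · have h1 := mul_mem (norm_der hp.2 hpx' hc') (inv_mem hc')
    rw [hpi, show p * c' * p * c'⁻¹ = p * (c' * p * c'⁻¹) by group] at h1
    have h2 : c' * z * p * (c' * z)⁻¹ = c' * p * c'⁻¹ := by
      have h3 := hp.2
      calc c' * z * p * (c' * z)⁻¹ = c' * (z * p) * (c' * z)⁻¹ := by group
        _ = c' * (p * z) * (c' * z)⁻¹ := by rw [h3]
        _ = _ := by group
    rw [h2]
    exact h1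

/-! ### The outer elements -/

/-- **the elements of `C_{Fi24'}(z)` outside `E` do not centralize `x`** -/
theorem C0_le (hidx : ∀ g ∈ commutator Fi24, g * z = z * g → g ∉ E → ∀ h ∈ commutator Fi24, h * z = z * h → h ∉ E →
    g⁻¹ * h ∈ E) : C0 x ≤ E := by
  intro c hc
  obtain ⟨hcK, hcz, hcx⟩ := mem_C0.1 hc
  by_contra hcE
  obtain ⟨g, hg, hgz, hinv⟩ := exists_inv
  have h1 := hinv x H.mem
  have hgE : g ∉ E := by
    intro hgE
    apply H.sq_not_mem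
    have h2 := comm_Zc hgE H.mem
    have h3 : x * x = (⁅g, x⁆)⁻¹ * (g * x * g⁻¹ * x) := by rw [commutatorElement_def]; group
    rw [h3]
    exact R.mul_mem (R.inv_mem h2) h1
  have h2 := hidx g hg hgz hgE c hcK hcz hcE
  have h3 := comm_Zc h2 H.mem
  apply H.sq_not_mem
  -- `x = c x c⁻¹ = g [g⁻¹c, x] x g⁻¹`
  have h4 : x * x = (g * ⁅g⁻¹ * c, x⁆ * g⁻¹) * (g * x * g⁻¹ * x) := by
    have h5 : x = c * x * c⁻¹ := by rw [hcx, mul_inv_cancel_right]
    have h6 : (g * ⁅g⁻¹ * c, x⁆ * g⁻¹) * (g * x * g⁻¹ * x) = (c * x * c⁻¹) * x := by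
      rw [commutatorElement_def]; group
    rw [h6, ← h5]
  rw [h4]
  exact R.mul_mem (R_norm hgz h3) h1

/-! ### The sextet -/

omit H in
theorem mem_Dz_of_comm {p : Fi24} (hp : p ∈ L) (h : Commute p z) : p ∈ Dz := ⟨hp, h.eq⟩

end Dat

/-- a set of four points is a tetrad -/
theorem tet_of_set {T : Finset GolayPt} (hT : T.card = 4) {v : GolayPt} (hv : v ∈ T) :
    ∃ a b c, T = {v, a, b, c} ∧ IsTet L ((pr e T : Spor.Fi24') : Fi24) (d v) (d a) (d b) (d c) := by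
  have h1 : (T.erase v).card = 3 := by rw [Finset.card_erase_of_mem hv, hT]
  obtain ⟨a, b, c, hab, hac, hbc, h2⟩ := Finset.card_eq_three.1 h1
  have hT' : T = {v, a, b, c} := by rw [← h2, Finset.insert_erase hv]
  have hv' : v ∉ T.erase v := Finset.notMem_erase _ _
  rw [h2] at hv'
  simp only [Finset.mem_insert, Finset.mem_singleton, not_or] at hv'
  obtain ⟨hva, hvb, hvc⟩ := hv'
  refine ⟨a, b, c, hT', ?_⟩
  have h3 := Coco.isTet hva hvb hvc hab hac hbc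
  have h4 : ((pr e T : Spor.Fi24') : Fi24) = d v * d a * d b * d c := by
    rw [hT', CocoD.pre.pr_insert (by simp [hva, hvb, hvc]), CocoD.pre.pr_insert (by simp [hab, hac]),
      CocoD.pre.pr_pair hbc, ← mul_assoc, Subgroup.coe_mul, Coco.coe_two, Coco.coe_two, ← mul_assoc]
  rw [h4]
  exact h3

/-- the tetrad of `z` -/
def T1 : Finset GolayPt := {none, some 0, some 1, some 2}

theorem T1_card : T1.card = 4 := by decide

theorem pr_T1 : ((pr e T1 : Spor.Fi24') : Fi24) = z := by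
  have h1 : pr e T1 = e none * (e (some 0) * (e (some 1) * e (some 2))) := by
    unfold T1
    rw [CocoD.pre.pr_insert (by decide), CocoD.pre.pr_insert (by decide), CocoD.pre.pr_pair (by decide)]
  rw [h1, ← mul_assoc, Subgroup.coe_mul, Coco.coe_two, Coco.coe_two, ← mul_assoc]
  have h2 : d (some 1) = Fischer.Fi24Rep.gen .c := by
    rw [← CocoD.dw2]
    show Fischer.Fi24Rep.word [Fi24.Gen.c] = _
    rw [Fischer.Fi24Spider.word_cons, Fischer.Fi24Spider.word_nil, mul_one]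
  have h3 : d (some 2) = Fischer.Fi24Rep.gen .e := by
    rw [← CocoD.dw3]
    show Fischer.Fi24Rep.word [Fi24.Gen.e] = _
    rw [Fischer.Fi24Spider.word_cons, Fischer.Fi24Spider.word_nil, mul_one]
  rw [CocoD.d_none, CocoD.d_zero, h2, h3]
  rfl

end Cfsg.Agent.H827.ZThree
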